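/-
The binary icosahedral model: a faithful fixed-point-free representation of `SL(2,5)` by
two by two matrices, given by a table over `ℤ[ζ]`, `ζ` a primitive fifth root of unity.
-/
import Mathlib.LinearAlgebra.Matrix.SpecialLinearGroup
import Mathlib.LinearAlgebra.Matrix.NonsingularInverse
import Mathlib.Data.ZMod.Basic
import Mathlib.Analysis.Complex.Basic
import Mathlib.GroupTheory.OrderOfElement
import Mathlib.Tactic.LinearCombination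

set_option autoImplicit false
set_option linter.style.haveILetI false

namespace Cfsg.Agent.FGS4.Zass

open scoped Matrix

/-- `SL(2,5)`. -/
abbrev T5 : Type := Matrix.SpecialLinearGroup (Fin 2) (ZMod 5)

/-- Entries of an element of `SL(2,5)`. -/
abbrev K5 : Type := ZMod 5 × ZMod 5 × ZMod 5 × ZMod 5

/-- An element of `ℤ[ζ]` in the basis `1, ζ, ζ², ζ³`. -/
abbrev Z5 : Type := ℤ × ℤ × ℤ × ℤ

/-- A two by two matrix over `ℤ[ζ]`. -/
abbrev M5 : Type := Z5 × Z5 × Z5 × Z5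

def zadd : Z5 → Z5 → Z5
  | (a, b, c, d), (e, f, g, h) => (a + e, b + f, c + g, d + h)

def zmul : Z5 → Z5 → Z5
  | (a, b, c, d), (e, f, g, h) =>
    ((a * e) + (c * h + d * g) - (b * h + c * g + d * f),
      (a * f + b * e) + d * h - (b * h + c * g + d * f),
      (a * g + b * f + c * e) - (b * h + c * g + d * f),
      (a * h + b * g + c * f + d * e) - (b * h + c * g + d * f))

def mmul : M5 → M5 → M5
  | (a, b, c, d), (e, f, g, h) =>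
    (zadd (zmul a e) (zmul b g), zadd (zmul a f) (zmul b h),
      zadd (zmul c e) (zmul d g), zadd (zmul c f) (zmul d h))

def kmul : K5 → K5 → K5
  | (a, b, c, d), (e, f, g, h) => (a * e + b * g, a * f + b * h, c * e + d * g, c * f + d * h)

def kdet : K5 → ZMod 5
  | (a, b, c, d) => a * d - b * c

def kA : K5 := (0, 4, 1, 4)
def kB : K5 := (4, 4, 1, 0)
def kY : K5 := (2, 3, 1, 2)

def mA : M5 := ((0, 0, 0, 0), (-1, 0, 0, 0), (1, 0, 0, 0), (-1, 0, 0, 0))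
def mB : M5 := ((-1, 0, 0, 0), (1, 1, 1, 1), (0, 1, 0, 0), (0, 0, 0, 0))

def table : List (K5 × M5) :=
  [((1,0,0,1), ((1,0,0,0),(0,0,0,0),(0,0,0,0),(1,0,0,0))),
   ((0,4,1,4), ((0,0,0,0),(-1,0,0,0),(1,0,0,0),(-1,0,0,0))),
   ((4,4,1,0), ((-1,0,0,0),(1,1,1,1),(0,1,0,0),(0,0,0,0))),
   ((4,1,4,0), ((-1,0,0,0),(1,0,0,0),(-1,0,0,0),(0,0,0,0))),
   ((4,0,3,4), ((0,-1,0,0),(0,0,0,0),(-1,-1,0,0),(1,1,1,1))),
   ((4,2,0,4), ((1,1,1,1),(0,-1,-1,-1),(0,0,0,0),(0,-1,0,0))),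
   ((0,1,4,4), ((0,0,0,0),(-1,-1,-1,-1),(0,-1,0,0),(-1,0,0,0))),
   ((2,1,1,1), ((1,1,0,0),(-1,-1,-1,-1),(1,0,0,0),(-1,-1,-1,-1))),
   ((0,1,4,3), ((0,0,0,0),(0,1,0,0),(1,1,1,1),(0,0,-1,-1))),
   ((1,1,1,2), ((0,1,0,0),(1,0,0,0),(0,1,0,0),(0,-1,-1,-1))),
   ((2,4,4,1), ((0,-1,-1,-1),(-1,0,0,0),(0,-1,0,0),(0,1,0,0))),
   ((3,1,4,0), ((0,0,-1,-1),(0,0,0,1),(0,0,-1,0),(0,0,0,0))),
   ((1,4,4,2), ((-1,-1,-1,-1),(1,1,1,1),(-1,0,0,0),(1,1,0,0))),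
   ((1,2,1,3), ((-1,-1,-1,-1),(0,0,1,1),(-1,-1,-1,-1),(0,1,1,1))),
   ((4,3,0,4), ((0,-1,0,0),(0,1,1,1),(0,0,0,0),(1,1,1,1))),
   ((1,4,3,3), ((0,1,0,0),(0,-1,0,0),(0,0,-1,-1),(-1,-1,0,0))),
   ((1,0,4,1), ((0,0,1,0),(0,0,0,0),(0,0,0,-1),(0,0,0,1))),
   ((1,3,2,2), ((1,0,0,0),(-1,-1,0,0),(0,-1,-1,-1),(0,0,1,1))),
   ((2,3,2,1), ((0,0,1,1),(1,1,1,0),(0,1,1,0),(1,0,0,0))),
   ((1,1,0,1), ((0,0,0,1),(0,0,1,0),(0,0,0,0),(0,0,1,0))),
   ((3,2,1,1), ((-1,-1,0,0),(0,1,1,0),(0,0,1,0),(0,1,0,0))),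
   ((4,0,2,4), ((1,1,1,1),(0,0,0,0),(1,1,0,0),(0,-1,0,0))),
   ((3,4,3,1), ((0,1,1,1),(0,0,0,-1),(1,1,1,0),(-1,-1,-1,-1))),
   ((2,2,3,1), ((0,0,1,1),(1,1,0,0),(0,1,1,1),(1,0,0,0))),
   ((1,4,2,4), ((0,0,0,1),(0,0,0,-1),(0,0,1,1),(0,0,0,-1))),
   ((3,3,4,1), ((0,1,1,1),(0,0,-1,-1),(1,1,1,1),(-1,-1,-1,-1))),
   ((3,4,0,2), ((0,-1,-1,0),(-1,0,0,0),(0,-1,0,1),(0,1,1,0))),
   ((0,4,1,0), ((0,0,0,0),(0,0,-1,0),(0,0,0,1),(0,0,0,0))),
   ((4,4,2,1), ((0,0,-1,0),(0,-1,0,0),(-1,-1,-1,0),(0,0,1,0))),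
   ((3,1,2,1), ((-1,-1,0,0),(0,1,0,0),(0,0,1,1),(0,1,0,0))),
   ((2,4,0,3), ((-1,-1,-1,0),(1,1,1,1),(-1,0,0,1),(1,1,1,0))),
   ((3,0,1,2), ((1,1,1,0),(-1,-1,-2,-1),(1,0,0,0),(-1,-1,-1,0))),
   ((1,3,4,3), ((0,1,0,0),(0,-1,-1,0),(0,0,-1,0),(-1,-1,0,0))),
   ((1,3,1,4), ((0,0,1,0),(0,0,-1,-1),(0,0,1,0),(0,0,-1,0))),
   ((2,0,1,3), ((0,1,1,0),(1,0,-1,0),(0,1,0,0),(0,-1,-1,0))),
   ((1,1,2,3), ((-1,-1,-1,-1),(0,0,0,1),(-1,-1,-1,0),(0,1,1,1))),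
   ((4,3,1,1), ((0,0,0,-1),(0,-1,-1,0),(-1,-1,-1,-1),(0,0,0,1))),
   ((1,2,3,2), ((1,0,0,0),(-1,-1,-1,0),(0,-1,-1,0),(0,0,1,1))),
   ((0,3,3,2), ((0,1,0,-1),(0,-1,-1,0),(0,0,-1,-1),(-1,-1,-1,0))),
   ((4,0,4,4), ((0,0,0,-1),(0,0,0,0),(0,0,0,-1),(0,0,-1,0))),
   ((3,4,2,3), ((1,1,1,0),(0,0,-1,0),(1,1,0,0),(0,-1,-1,0))),
   ((3,4,1,0), ((0,0,-1,-1),(0,-1,0,0),(-1,-1,-1,-1),(0,0,0,0))),
   ((0,2,2,1), ((1,0,0,-1),(-1,-1,-1,0),(0,-1,-1,-1),(0,0,0,1))),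
   ((4,3,2,3), ((-1,0,0,0),(1,1,1,0),(0,1,1,0),(0,0,-1,-1))),
   ((1,2,2,0), ((0,0,1,0),(1,1,0,0),(0,1,1,0),(1,0,-1,0))),
   ((4,1,0,4), ((0,0,-1,0),(0,0,1,0),(0,0,0,0),(0,0,0,-1))),
   ((4,2,1,2), ((0,-1,0,0),(0,1,1,0),(0,0,1,0),(1,1,0,0))),
   ((3,2,4,3), ((1,1,1,0),(0,-1,-1,-1),(0,0,0,-1),(0,-1,-1,0))),
   ((4,4,3,2), ((1,1,1,1),(0,0,0,-1),(1,1,1,0),(0,-1,-1,-1))),
   ((2,3,3,0), ((0,1,1,0),(0,0,-1,-1),(1,1,1,0),(-1,-1,-2,-1))),
   ((0,2,2,2), ((-1,-1,-2,-1),(0,0,1,1),(-1,-1,-1,0),(0,1,1,0))),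
   ((2,2,1,4), ((0,-1,-1,-1),(0,0,1,1),(-1,-1,-1,-1),(1,1,1,1))),
   ((3,1,3,3), ((0,-1,-1,0),(0,0,1,0),(-1,-1,0,0),(1,1,1,0))),
   ((2,4,3,4), ((1,1,0,0),(0,-1,0,0),(0,0,-1,-1),(0,-1,0,0))),
   ((0,3,3,1), ((1,0,-1,0),(-1,-1,0,0),(0,-1,-1,0),(0,0,1,0))),
   ((3,3,2,4), ((0,0,-1,-1),(-1,-1,0,0),(0,-1,-1,-1),(-1,0,0,0))),
   ((1,3,3,0), ((0,0,0,1),(1,1,1,0),(0,1,1,1),(1,0,0,-1))),
   ((0,4,1,3), ((0,0,0,0),(0,0,0,-1),(0,0,1,0),(0,0,-1,-1))),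
   ((3,3,1,3), ((0,-1,-1,0),(0,1,1,1),(0,0,0,1),(1,1,1,0))),
   ((2,2,2,0), ((-1,-1,-1,0),(0,1,1,0),(0,0,1,1),(0,1,0,-1))),
   ((3,2,2,0), ((0,-1,-1,0),(0,0,1,1),(-1,-1,-1,0),(1,1,2,1))),
   ((3,0,4,2), ((0,-1,-1,0),(-1,0,1,0),(0,-1,0,0),(0,1,1,0))),
   ((0,1,4,2), ((0,0,0,0),(0,0,0,1),(0,0,-1,0),(0,0,1,1))),
   ((4,3,3,0), ((0,0,-1,0),(-1,-1,0,0),(0,-1,-1,0),(-1,0,1,0))),
   ((1,2,4,4), ((0,0,0,1),(0,1,1,0),(1,1,1,1),(0,0,0,-1))),
   ((2,3,1,2), ((-1,-1,-1,0),(0,1,1,1),(0,0,0,1),(0,1,1,0))),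
   ((2,0,4,3), ((-1,-1,-1,0),(1,1,2,1),(-1,0,0,0),(1,1,1,0))),
   ((3,3,3,0), ((1,1,1,0),(0,-1,-1,0),(0,0,-1,-1),(0,-1,0,1))),
   ((4,1,1,3), ((1,1,1,1),(-1,-1,-1,-1),(1,0,0,0),(-1,-1,0,0))),
   ((2,2,0,3), ((1,1,0,0),(-1,-1,-1,0),(1,0,-1,0),(-1,-1,0,0))),
   ((2,1,4,0), ((0,0,1,1),(0,1,0,0),(1,1,1,1),(0,0,0,0))),
   ((2,4,2,2), ((0,1,1,0),(0,0,-1,0),(1,1,0,0),(-1,-1,-1,0))),
   ((3,1,1,4), ((0,1,1,1),(1,0,0,0),(0,1,0,0),(0,-1,0,0))),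
   ((2,0,3,3), ((0,-1,-1,-1),(-1,0,0,1),(0,-1,-1,0),(0,1,1,1))),
   ((4,2,4,1), ((0,0,-1,0),(0,0,1,1),(0,0,-1,0),(0,0,1,0))),
   ((4,2,2,0), ((0,0,0,-1),(-1,-1,-1,0),(0,-1,-1,-1),(-1,0,0,1))),
   ((3,0,0,2), ((0,0,-1,-1),(0,-1,0,1),(-1,-1,-2,-1),(0,0,1,1))),
   ((2,0,0,3), ((0,0,1,1),(0,1,0,-1),(1,1,2,1),(0,0,-1,-1))),
   ((0,3,3,4), ((-1,0,0,1),(1,1,1,0),(0,1,1,1),(0,0,0,-1))),
   ((1,1,3,4), ((0,0,1,0),(0,1,0,0),(1,1,1,0),(0,0,-1,0))),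
   ((3,2,0,2), ((0,1,1,1),(1,1,0,0),(1,2,1,1),(0,-1,-1,-1))),
   ((4,4,4,3), ((0,-1,0,0),(-1,0,0,0),(0,-1,0,0),(0,1,1,1))),
   ((3,0,3,2), ((-1,-1,0,0),(1,2,1,1),(0,1,1,1),(1,1,0,0))),
   ((3,4,4,4), ((-1,-1,0,0),(1,1,1,1),(-1,0,0,0),(1,1,1,1))),
   ((0,2,2,3), ((0,-1,0,1),(0,1,1,0),(0,0,1,1),(1,1,1,0))),
   ((3,1,0,2), ((1,1,1,0),(-1,-1,-1,-1),(1,0,0,-1),(-1,-1,-1,0))),
   ((4,1,3,1), ((0,0,0,-1),(0,0,0,1),(0,0,-1,-1),(0,0,0,1))),
   ((0,2,2,4), ((-1,0,1,0),(1,1,0,0),(0,1,1,0),(0,0,-1,0))),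
   ((2,1,0,3), ((0,1,1,0),(1,0,0,0),(0,1,0,-1),(0,-1,-1,0))),
   ((0,3,3,3), ((1,1,2,1),(0,0,-1,-1),(1,1,1,0),(0,-1,-1,0))),
   ((4,2,3,3), ((-1,0,0,0),(1,1,0,0),(0,1,1,1),(0,0,-1,-1))),
   ((1,0,3,1), ((-1,-1,-1,-1),(0,0,0,0),(-1,-1,0,0),(0,1,0,0))),
   ((3,3,0,2), ((-1,-1,0,0),(1,1,1,0),(-1,0,1,0),(1,1,0,0))),
   ((4,1,2,2), ((0,-1,0,0),(0,1,0,0),(0,0,1,1),(1,1,0,0))),
   ((2,2,4,2), ((0,1,1,0),(0,-1,-1,-1),(0,0,0,-1),(-1,-1,-1,0))),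
   ((1,4,0,1), ((0,0,1,0),(0,0,-1,0),(0,0,0,0),(0,0,0,1))),
   ((3,0,2,2), ((0,1,1,1),(1,0,0,-1),(0,1,1,0),(0,-1,-1,-1))),
   ((2,1,2,4), ((0,-1,-1,-1),(0,0,0,1),(-1,-1,-1,0),(1,1,1,1))),
   ((2,1,3,2), ((-1,-1,-1,0),(0,0,1,0),(-1,-1,0,0),(0,1,1,0))),
   ((0,3,3,0), ((-1,-2,-1,-1),(0,1,1,1),(-1,-1,0,0),(1,2,1,1))),
   ((1,2,0,1), ((0,1,0,0),(0,-1,-1,-1),(0,0,0,0),(-1,-1,-1,-1))),
   ((2,3,0,3), ((0,-1,-1,-1),(-1,-1,0,0),(-1,-2,-1,-1),(0,1,1,1))),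
   ((1,1,4,0), ((1,0,0,0),(-1,-1,-1,-1),(0,-1,0,0),(0,0,0,0))),
   ((3,2,3,4), ((0,0,-1,-1),(-1,-1,-1,0),(0,-1,-1,0),(-1,0,0,0))),
   ((2,4,1,0), ((0,0,1,1),(0,0,0,-1),(0,0,1,0),(0,0,0,0))),
   ((0,4,1,2), ((0,0,0,0),(0,-1,0,0),(-1,-1,-1,-1),(0,0,1,1))),
   ((2,0,2,3), ((1,1,0,0),(-1,-2,-1,-1),(0,-1,-1,-1),(-1,-1,0,0))),
   ((0,1,4,1), ((0,0,0,0),(1,0,0,0),(-1,0,0,0),(1,0,0,0))),
   ((0,2,2,0), ((1,2,1,1),(0,-1,-1,-1),(1,1,0,0),(-1,-2,-1,-1))),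
   ((4,3,4,2), ((1,1,1,1),(0,0,-1,-1),(1,1,1,1),(0,-1,-1,-1))),
   ((1,0,1,1), ((0,0,0,1),(0,0,0,0),(0,0,0,1),(0,0,1,0))),
   ((2,3,4,4), ((1,1,0,0),(0,-1,-1,0),(0,0,-1,0),(0,-1,0,0))),
   ((0,4,1,1), ((0,0,0,0),(1,1,1,1),(0,1,0,0),(1,0,0,0))),
   ((1,0,2,1), ((0,1,0,0),(0,0,0,0),(1,1,0,0),(-1,-1,-1,-1))),
   ((4,0,1,4), ((0,0,-1,0),(0,0,0,0),(0,0,0,1),(0,0,0,-1))),
   ((1,4,1,0), ((1,0,0,0),(-1,0,0,0),(1,0,0,0),(0,0,0,0))),
   ((1,3,0,1), ((-1,-1,-1,-1),(0,1,1,1),(0,0,0,0),(0,1,0,0))),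
   ((4,4,0,4), ((0,0,0,-1),(0,0,-1,0),(0,0,0,0),(0,0,-1,0))),
   ((4,0,0,4), ((-1,0,0,0),(0,0,0,0),(0,0,0,0),(-1,0,0,0))),
   ((0,1,4,0), ((0,0,0,0),(0,0,1,0),(0,0,0,-1),(0,0,0,0)))]

/-- For the `i`-th entry, twice the parent index plus the index of the generator. -/
def parents : List ℕ :=
  [0,0,1,2,3,4,5,7,8,9,10,11,12,14,15,16,17,18,21,22,23,24,25,26,27,28,31,32,33,34,35,36,37,38,40,43,44,45,47,48,49,50,51,52,53,54,56,59,60,61,62,63,64,67,68,69,70,71,72,74,76,77,78,80,83,84,85,86,87,88,91,92,93,94,95,96,98,101,103,104,105,106,109,110,111,112,114,117,118,119,121,125,126,127,128,129,130,137,138,139,140,143,144,145,148,159,160,163,164,166,172,174,182,186,190,201,204,208,225,228]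

/-- The lift of an element of `SL(2,5)`. -/
def liftK (k : K5) : M5 :=
  ((table.find? fun e => e.1 == k).map Prod.snd).getD (zz, zz, zz, zz)
where zz : Z5 := (0, 0, 0, 0)

def traceList : List Z5 :=
  [(-2, 0, 0, 0), (-1, 0, -1, -1), (-1, 0, 0, 0), (0, 0, -1, -1), (0, 0, 0, 0), (0, 0, 1, 1),
    (1, 0, 0, 0), (1, 0, 1, 1)]

theorem keys_det : ∀ e ∈ table, kdet e.1 = 1 := by decide +kernel

theorem mem_keys : ∀ k : K5, kdet k = 1 → k ∈ table.map Prod.fst := by decide +kernel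

theorem liftK_all : (table.all fun e => (liftK (kmul e.1 kA) == mmul e.2 mA) &&
    (liftK (kmul e.1 kB) == mmul e.2 mB) && (liftK e.1 == e.2)) = true := by decide +kernel

theorem liftK_step : ∀ e ∈ table, liftK (kmul e.1 kA) = mmul e.2 mA ∧
    liftK (kmul e.1 kB) = mmul e.2 mB ∧ liftK e.1 = e.2 := fun e he => by
  have := List.all_eq_true.mp liftK_all e he
  simp only [Bool.and_eq_true, beq_iff_eq] at this
  exact ⟨this.1.1, this.1.2, this.2⟩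

theorem liftK_trace : ∀ e ∈ table, e.1 = (1, 0, 0, 1) ∨ zadd e.2.1 e.2.2.2.2 ∈ traceList := by
  decide +kernel

theorem keys_parent : ∀ i : Fin 120, (i : ℕ) = 0 ∨ (parents.getD i 0 / 2 < i ∧
    (table.map Prod.fst).getD i (0, 0, 0, 0) =
      kmul ((table.map Prod.fst).getD (parents.getD i 0 / 2) (0, 0, 0, 0))
        (if parents.getD i 0 % 2 = 0 then kA else kB)) := by decide +kernel

/-- Entries. -/
def key (g : T5) : K5 := (g.1 0 0, g.1 0 1, g.1 1 0, g.1 1 1)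

theorem key_injective : Function.Injective key := fun g h e => by
  simp only [key, Prod.mk.injEq] at e
  obtain ⟨e1, e2, e3, e4⟩ := e
  refine Subtype.ext (Matrix.ext fun i j => ?_)
  fin_cases i <;> fin_cases j <;> assumption

theorem key_mul (g h : T5) : key (g * h) = kmul (key g) (key h) := by
  simp [key, kmul, Matrix.mul_apply, Fin.sum_univ_two]

theorem key_one : key 1 = (1, 0, 0, 1) := by simp [key]

theorem kdet_key (g : T5) : kdet (key g) = 1 := by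
  have := g.det_coe
  rw [Matrix.det_fin_two] at this
  exact this

theorem exists_entry (g : T5) : ∃ e ∈ table, e.1 = key g :=
  List.mem_map.mp (mem_keys _ (kdet_key g))

def ofKey : K5 → Matrix (Fin 2) (Fin 2) (ZMod 5)
  | (a, b, c, d) => !![a, b; c, d]

def A5 : T5 := ⟨ofKey kA, by simp [ofKey, kA, Matrix.det_fin_two]; decide⟩
def B5 : T5 := ⟨ofKey kB, by simp [ofKey, kB, Matrix.det_fin_two]; decide⟩
def Y5 : T5 := ⟨ofKey kY, by simp [ofKey, kY, Matrix.det_fin_two]; decide⟩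

theorem key_A5 : key A5 = kA := by decide
theorem key_B5 : key B5 = kB := by decide
theorem key_Y5 : key Y5 = kY := by decide

theorem closure_AB : Subgroup.closure {A5, B5} = (⊤ : Subgroup T5) := by
  rw [eq_top_iff]
  intro g _
  suffices h : ∀ i, i < 120 → ∀ g : T5, key g = (table.map Prod.fst).getD i (0, 0, 0, 0) →
      g ∈ Subgroup.closure {A5, B5} by
    obtain ⟨i, hi, hig⟩ := List.mem_iff_getElem.mp (mem_keys _ (kdet_key g))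
    have hlen : (table.map Prod.fst).length = 120 := by decide +kernel
    exact h i (hlen ▸ hi) g (by rw [List.getD_eq_getElem?_getD, List.getElem?_eq_getElem hi, Option.getD_some, hig])
  intro i
  induction i using Nat.strong_induction_on with
  | _ i ih =>
    intro hi g hg
    obtain h0 | ⟨hlt, heq⟩ := keys_parent ⟨i, hi⟩
    · obtain rfl : i = 0 := h0
      have : g = 1 := key_injective (by rw [hg, key_one]; decide +kernel)
      rw [this]; exact one_mem _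
    · simp only at hlt heq
      set x : T5 := if parents.getD i 0 % 2 = 0 then A5 else B5 with hx
      have hxk : key x = if parents.getD i 0 % 2 = 0 then kA else kB := by
        rw [hx]; split <;> [exact key_A5; exact key_B5]
      obtain ⟨e, he, hek⟩ := exists_entry (g * x⁻¹)
      have hp : key (g * x⁻¹) = (table.map Prod.fst).getD (parents.getD i 0 / 2) (0, 0, 0, 0) := by
        have hdet : kdet ((table.map Prod.fst).getD (parents.getD i 0 / 2) (0, 0, 0, 0)) = 1 := by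
          have hlen : (table.map Prod.fst).length = 120 := by decide +kernel
          have hlt' : parents.getD i 0 / 2 < (table.map Prod.fst).length := by omega
          rw [List.getD_eq_getElem?_getD, List.getElem?_eq_getElem hlt', Option.getD_some]
          obtain ⟨e, he, hee⟩ := List.mem_map.mp (List.getElem_mem hlt')
          rw [← hee]; exact keys_det e he
        set k := (table.map Prod.fst).getD (parents.getD i 0 / 2) (0, 0, 0, 0) with hk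
        let y : T5 := ⟨ofKey k, by
          rw [Matrix.det_fin_two]; exact hdet⟩
        have hy : key y = k := rfl
        have : g = y * x := key_injective (by rw [key_mul, hy, hxk, hg, heq])
        rw [this, mul_inv_cancel_right, hy]
      have h1 : g * x⁻¹ ∈ Subgroup.closure {A5, B5} := ih _ hlt (by omega) _ hp
      have h2 : x ∈ Subgroup.closure ({A5, B5} : Set T5) := by
        rw [hx]; split <;> exact Subgroup.subset_closure (by simp)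
      simpa using mul_mem h1 h2

variable (z : ℂ)

/-- Evaluation at `z`. -/
def evalZ : Z5 → ℂ
  | (a, b, c, d) => a + b * z + c * z ^ 2 + d * z ^ 3

/-- Evaluation of a matrix at `z`. -/
def evalM : M5 → Matrix (Fin 2) (Fin 2) ℂ
  | (a, b, c, d) => !![evalZ z a, evalZ z b; evalZ z c, evalZ z d]

theorem evalZ_add (x y : Z5) : evalZ z (zadd x y) = evalZ z x + evalZ z y := by
  obtain ⟨a, b, c, d⟩ := x
  obtain ⟨e, f, g, h⟩ := y
  simp only [evalZ, zadd, Int.cast_add]; ring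

theorem evalZ_mul (hz : 1 + z + z ^ 2 + z ^ 3 + z ^ 4 = 0) (x y : Z5) :
    evalZ z (zmul x y) = evalZ z x * evalZ z y := by
  obtain ⟨a, b, c, d⟩ := x
  obtain ⟨e, f, g, h⟩ := y
  simp only [evalZ, zmul, Int.cast_add, Int.cast_sub, Int.cast_mul]
  linear_combination (-((b : ℂ) * h + c * g + d * f) - (z - 1) * (c * h + d * g + z * (d * h))) * hz

theorem evalM_mul (hz : 1 + z + z ^ 2 + z ^ 3 + z ^ 4 = 0) (x y : M5) :
    evalM z (mmul x y) = evalM z x * evalM z y := by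
  obtain ⟨a, b, c, d⟩ := x
  obtain ⟨e, f, g, h⟩ := y
  ext i j
  fin_cases i <;> fin_cases j <;>
    simp [evalM, mmul, Matrix.mul_apply, Fin.sum_univ_two, evalZ_add, evalZ_mul z hz]

/-- The standard generators. -/
noncomputable def AM : Matrix (Fin 2) (Fin 2) ℂ := !![0, -1; 1, -1]

/-- The standard second generator. -/
noncomputable def BM : Matrix (Fin 2) (Fin 2) ℂ := !![-1, -z⁻¹; z, 0]

theorem evalM_mA : evalM z mA = AM := by simp [evalM, mA, evalZ, AM]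

theorem evalM_mB (hz : 1 + z + z ^ 2 + z ^ 3 + z ^ 4 = 0) : evalM z mB = BM z := by
  have h5 : z * z ^ 4 = 1 := by linear_combination (z - 1) * hz
  have hinv : z⁻¹ = z ^ 4 := inv_eq_of_mul_eq_one_right h5
  have : 1 + z + z ^ 2 + z ^ 3 = -z⁻¹ := by rw [hinv]; linear_combination hz
  simp [evalM, mB, evalZ, BM, ← this]

/-- The representation of `SL(2,5)`. -/
noncomputable def phiFun (g : T5) : Matrix (Fin 2) (Fin 2) ℂ := evalM z (liftK (key g))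

theorem phiFun_step (hz : 1 + z + z ^ 2 + z ^ 3 + z ^ 4 = 0) (g : T5) :
    phiFun z (g * A5) = phiFun z g * AM ∧ phiFun z (g * B5) = phiFun z g * BM z := by
  obtain ⟨e, he, hek⟩ := exists_entry g
  obtain ⟨h1, h2, h3⟩ := liftK_step e he
  simp only [phiFun, key_mul, key_A5, key_B5, ← hek, h1, h2, h3, evalM_mul z hz, evalM_mA,
    evalM_mB z hz, and_self]

theorem phiFun_one : phiFun z 1 = 1 := by
  have : liftK (key 1) = ((1, 0, 0, 0), (0, 0, 0, 0), (0, 0, 0, 0), (1, 0, 0, 0)) := by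
    rw [key_one]; decide +kernel
  rw [phiFun, this]
  ext i j
  fin_cases i <;> fin_cases j <;> simp [evalM, evalZ]

theorem phiFun_mul (hz : 1 + z + z ^ 2 + z ^ 3 + z ^ 4 = 0) (g h : T5) :
    phiFun z (g * h) = phiFun z g * phiFun z h := by
  have hA : phiFun z A5 = AM := by
    simpa [phiFun_one] using (phiFun_step z hz 1).1
  have hB : phiFun z B5 = BM z := by
    simpa [phiFun_one] using (phiFun_step z hz 1).2
  let S : Subgroup T5 :=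
    { carrier := {h | ∀ g, phiFun z (g * h) = phiFun z g * phiFun z h}
      one_mem' := fun g => by rw [mul_one, phiFun_one, mul_one]
      mul_mem' := fun {a b} ha hb g => by rw [← mul_assoc, hb, ha, hb a, mul_assoc]
      inv_mem' := fun {a} ha g => by
        have h1 : phiFun z g = phiFun z (g * a⁻¹) * phiFun z a := by
          rw [← ha, inv_mul_cancel_right]
        have h2 : phiFun z a⁻¹ * phiFun z a = 1 := by rw [← ha, inv_mul_cancel, phiFun_one]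
        have h3 : phiFun z a * phiFun z a⁻¹ = 1 := (mul_eq_one_comm).mp h2
        rw [h1, mul_assoc, h3, mul_one] }
  have : (⊤ : Subgroup T5) ≤ S := by
    rw [← closure_AB, Subgroup.closure_le]
    rintro x (rfl | rfl) g
    · rw [(phiFun_step z hz g).1, hA]
    · rw [(phiFun_step z hz g).2, hB]
  exact this (Subgroup.mem_top h) g

/-- The representation of `SL(2,5)`, as a homomorphism. -/
noncomputable def phi (hz : 1 + z + z ^ 2 + z ^ 3 + z ^ 4 = 0) : T5 →* Matrix (Fin 2) (Fin 2) ℂ where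
  toFun := phiFun z
  map_one' := phiFun_one z
  map_mul' := phiFun_mul z hz

theorem phi_apply (hz : 1 + z + z ^ 2 + z ^ 3 + z ^ 4 = 0) (g : T5) :
    phi z hz g = phiFun z g := by rw [phi, MonoidHom.coe_mk, OneHom.coe_mk]

theorem phi_A5 (hz : 1 + z + z ^ 2 + z ^ 3 + z ^ 4 = 0) : phi z hz A5 = AM := by
  rw [phi_apply]
  simpa [phiFun_one] using (phiFun_step z hz 1).1

theorem phi_B5 (hz : 1 + z + z ^ 2 + z ^ 3 + z ^ 4 = 0) : phi z hz B5 = BM z := by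
  rw [phi_apply]
  simpa [phiFun_one] using (phiFun_step z hz 1).2

theorem phi_det (hz : 1 + z + z ^ 2 + z ^ 3 + z ^ 4 = 0) (g : T5) : (phi z hz g).det = 1 := by
  have hz0 : z ≠ 0 := fun h => by rw [h] at hz; norm_num at hz
  let S : Submonoid T5 :=
    { carrier := {g | (phi z hz g).det = 1}
      one_mem' := by simp
      mul_mem' := fun {a b} (ha : (phi z hz a).det = 1) (hb : (phi z hz b).det = 1) => by
        show (phi z hz (a * b)).det = 1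
        rw [map_mul, Matrix.det_mul, ha, hb, one_mul] }
  have hm : g ∈ Subgroup.closure ({A5, B5} : Set T5) := closure_AB ▸ Subgroup.mem_top g
  rw [← Subgroup.mem_toSubmonoid, Subgroup.closure_toSubmonoid_of_finite] at hm
  refine (Submonoid.closure_le.mpr ?_ hm : g ∈ S)
  rintro x (rfl | rfl)
  · show (phi z hz A5).det = 1
    rw [phi_A5, AM, Matrix.det_fin_two]; simp
  · show (phi z hz B5).det = 1
    rw [phi_B5, BM, Matrix.det_fin_two]; simp [hz0]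

theorem phi_trace_ne_two (hz : 1 + z + z ^ 2 + z ^ 3 + z ^ 4 = 0) (g : T5) (hg : g ≠ 1) :
    (phi z hz g).trace ≠ 2 := by
  obtain ⟨e, he, hek⟩ := exists_entry g
  obtain h | h := liftK_trace e he
  · exact absurd (key_injective (by rw [← hek, h, key_one])) hg
  intro ht
  have h2 : evalZ z (zadd e.2.1 e.2.2.2.2) = 2 := by
    rw [phi_apply] at ht
    rw [phiFun, ← hek, (liftK_step e he).2.2, Matrix.trace_fin_two] at ht
    rw [evalZ_add, ← ht]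
    rfl
  set u := z ^ 2 + z ^ 3 with hu
  have hq : u ^ 2 + u - 1 = 0 := by rw [hu]; linear_combination (z ^ 2 + z - 1) * hz
  generalize zadd e.2.1 e.2.2.2.2 = t at h h2
  simp only [traceList, List.mem_cons, List.not_mem_nil, or_false] at h
  rcases h with rfl | rfl | rfl | rfl | rfl | rfl | rfl | rfl <;>
    simp only [evalZ, Int.cast_neg, Int.cast_ofNat, Int.cast_zero, Int.cast_one] at h2
  · norm_num at h2
  · have : u = -3 := by rw [hu]; linear_combination -h2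
    rw [this] at hq; norm_num at hq
  · norm_num at h2
  · have : u = -2 := by rw [hu]; linear_combination -h2
    rw [this] at hq; norm_num at hq
  · norm_num at h2
  · have : u = 2 := by rw [hu]; linear_combination h2
    rw [this] at hq; norm_num at hq
  · norm_num at h2
  · have : u = 1 := by rw [hu]; linear_combination h2
    rw [this] at hq; norm_num at hq

/-- Elements of order three, oriented, near the standard pair. -/
theorem model_two : ∃ x y : T5, x ≠ y ∧ x ^ 3 = 1 ∧ y ^ 3 = 1 ∧ x ≠ 1 ∧ y ≠ 1 ∧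
    orderOf (x * A5) = 4 ∧ orderOf (x * B5) = 4 ∧ orderOf (y * A5) = 4 ∧ orderOf (y * B5) = 4 := by
  let x : T5 := ⟨ofKey (2, 3, 1, 2), by simp [ofKey, Matrix.det_fin_two]; decide⟩
  let y : T5 := ⟨ofKey (2, 4, 2, 2), by simp [ofKey, Matrix.det_fin_two]; decide⟩
  have key4 : ∀ g : T5, key (g * g) = (4, 0, 0, 4) → orderOf g = 4 := fun g hg => by
    refine orderOf_eq_prime_pow (p := 2) (n := 1) ?_ ?_
    · intro h
      rw [pow_one, sq] at h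
      rw [h, key_one] at hg
      revert hg; decide
    · show g ^ 2 ^ 2 = 1
      apply key_injective
      rw [show 2 ^ 2 = 2 + 2 from rfl, pow_add, sq, key_mul, hg, key_one]
      decide
  refine ⟨x, y, fun h => ?_, key_injective ?_, key_injective ?_, fun h => ?_, fun h => ?_,
    key4 _ ?_, key4 _ ?_, key4 _ ?_, key4 _ ?_⟩
  all_goals first
    | (have := congrArg key h; revert this; decide)
    | (simp only [pow_succ, pow_zero, key_mul, key_one]; decide)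

end Cfsg.Agent.FGS4.Zass
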