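/-
Finite fixed-point-free groups of two by two complex matrices of determinant one: elements of
order three.
-/
import Cfsg.Agent.FGS4.Zass.Model
import Cfsg.Agent.OddChar.GaloisAut
import Mathlib.Analysis.SpecialFunctions.Complex.Circle
import Mathlib.Analysis.SpecialFunctions.Trigonometric.Basic
import Mathlib.RingTheory.RootsOfUnity.Complex

set_option autoImplicit false
set_option linter.style.haveILetI false

namespace Cfsg.Agent.FGS4.Zass

open scoped Matrix

/-- A fixed-point-free representation by two by two matrices of determinant one. -/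
structure Rep2 (H : Type*) [Group H] where
  σ : H →* Matrix (Fin 2) (Fin 2) ℂ
  det_eq : ∀ h, (σ h).det = 1
  fpf : ∀ h, h ≠ 1 → ∀ v, σ h *ᵥ v = v → v = 0

theorem exists_eigen {M : Matrix (Fin 2) (Fin 2) ℂ} (hM : M.det = 1) {ζ : ℂ}
    (hζ : ζ ^ 2 - M.trace * ζ + 1 = 0) : ∃ v, v ≠ 0 ∧ M *ᵥ v = ζ • v := by
  obtain ⟨v, hv, hv0⟩ := Matrix.exists_mulVec_eq_zero_iff.mpr
    (show (M - ζ • (1 : Matrix (Fin 2) (Fin 2) ℂ)).det = 0 by
      rw [Matrix.det_fin_two] at hM
      rw [Matrix.trace_fin_two] at hζ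
      simp [Matrix.det_fin_two]
      linear_combination hζ + hM)
  rw [Matrix.sub_mulVec, Matrix.smul_mulVec, Matrix.one_mulVec, sub_eq_zero] at hv0
  exact ⟨v, hv, hv0⟩

theorem pow_mulVec_eigen (M : Matrix (Fin 2) (Fin 2) ℂ) {ζ : ℂ} {v : Fin 2 → ℂ}
    (h : M *ᵥ v = ζ • v) : ∀ m : ℕ, M ^ m *ᵥ v = ζ ^ m • v
  | 0 => by simp
  | m + 1 => by
    rw [pow_succ, ← Matrix.mulVec_mulVec, h, Matrix.mulVec_smul, pow_mulVec_eigen M h m, smul_smul,
      ← pow_succ']

theorem exists_root (t : ℂ) : ∃ ζ : ℂ, ζ ^ 2 - t * ζ + 1 = 0 := by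
  obtain ⟨s, hs⟩ := IsAlgClosed.exists_eq_mul_self (t ^ 2 - 4)
  exact ⟨(t + s) / 2, by linear_combination (-(1 : ℂ) / 4) * hs⟩

variable {H : Type*} [Group H] (R : Rep2 H)

namespace Rep2

theorem eq_one {h : H} {v : Fin 2 → ℂ} (hv : v ≠ 0) (hfix : R.σ h *ᵥ v = v) : h = 1 := by
  by_contra h1
  exact hv (R.fpf h h1 v hfix)

theorem injective : Function.Injective R.σ := fun a b hab => by
  refine mul_inv_eq_one.mp (R.eq_one (v := fun _ => 1) (fun h => one_ne_zero (congrFun h 0)) ?_)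
  rw [map_mul, hab, ← map_mul, mul_inv_cancel, map_one, Matrix.one_mulVec]

theorem isPrimitiveRoot (h : H) {ζ : ℂ} (hζ : ζ ^ 2 - (R.σ h).trace * ζ + 1 = 0) :
    IsPrimitiveRoot ζ (orderOf h) := by
  obtain ⟨v, hv, hv1⟩ := exists_eigen (R.det_eq h) hζ
  refine ⟨?_, fun l hl => orderOf_dvd_of_pow_eq_one (R.eq_one hv ?_)⟩
  · have h1 := pow_mulVec_eigen _ hv1 (orderOf h)
    rw [← map_pow, pow_orderOf_eq_one, map_one, Matrix.one_mulVec] at h1
    by_contra h2
    refine hv (funext fun i => ?_)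
    have h3 := congrFun h1 i
    rw [Pi.smul_apply, smul_eq_mul] at h3
    exact (mul_eq_zero.mp (show (ζ ^ orderOf h - 1) * v i = 0 by linear_combination -h3)).resolve_left
      (sub_ne_zero.mpr h2)
  · rw [map_pow, pow_mulVec_eigen _ hv1 l, hl, one_smul]

theorem trace_eq_of_root (h : H) {ζ : ℂ} (hζ : ζ ^ 2 - (R.σ h).trace * ζ + 1 = 0) :
    (R.σ h).trace = ζ + ζ⁻¹ := by
  have hz : ζ ≠ 0 := fun h0 => by rw [h0] at hζ; norm_num at hζ
  field_simp
  linear_combination -hζ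

theorem orderOf_eq_of_trace (h : H) {m : ℕ} {ζ : ℂ} (hζ : IsPrimitiveRoot ζ m)
    (hζ0 : ζ ^ 2 - (R.σ h).trace * ζ + 1 = 0) : orderOf h = m :=
  (R.isPrimitiveRoot h hζ0).unique hζ

theorem trace_of_three {h : H} (hh : orderOf h = 3) : (R.σ h).trace = -1 := by
  obtain ⟨ζ, hζ⟩ := exists_root (R.σ h).trace
  have hp := R.isPrimitiveRoot h hζ
  rw [hh] at hp
  have h1 : ζ ^ 2 + ζ + 1 = 0 := by
    refine mul_left_cancel₀ (sub_ne_zero.mpr (hp.ne_one (by norm_num))) ?_
    linear_combination hp.pow_eq_one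
  exact mul_right_cancel₀ (hp.ne_zero (by norm_num))
    (show (R.σ h).trace * ζ = -1 * ζ by linear_combination h1 - hζ)

theorem trace_of_four {h : H} (hh : orderOf h = 4) : (R.σ h).trace = 0 := by
  obtain ⟨ζ, hζ⟩ := exists_root (R.σ h).trace
  have hp := R.isPrimitiveRoot h hζ
  rw [hh] at hp
  have h1 : ζ ^ 2 + 1 = 0 := by
    refine mul_left_cancel₀ (sub_ne_zero.mpr (hp.pow_ne_one_of_pos_of_lt (l := 2) (by norm_num)
      (by norm_num))) ?_
    linear_combination hp.pow_eq_one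
  exact mul_right_cancel₀ (hp.ne_zero (by norm_num))
    (show (R.σ h).trace * ζ = 0 * ζ by linear_combination h1 - hζ)

theorem trace_of_six {h : H} (hh : orderOf h = 6) : (R.σ h).trace = 1 := by
  obtain ⟨ζ, hζ⟩ := exists_root (R.σ h).trace
  have hp := R.isPrimitiveRoot h hζ
  rw [hh] at hp
  have h3 : ζ ^ 3 = -1 := by
    refine eq_neg_of_add_eq_zero_left (mul_left_cancel₀ (sub_ne_zero.mpr
      (hp.pow_ne_one_of_pos_of_lt (l := 3) (by norm_num) (by norm_num))) ?_)
    linear_combination hp.pow_eq_one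
  have h1 : ζ ^ 2 - ζ + 1 = 0 := by
    have hne : ζ + 1 ≠ 0 := fun h0 => hp.pow_ne_one_of_pos_of_lt (l := 2) (by norm_num) (by norm_num)
      (by rw [eq_neg_of_add_eq_zero_left h0]; norm_num)
    refine mul_left_cancel₀ hne ?_
    linear_combination h3
  exact mul_right_cancel₀ (hp.ne_zero (by norm_num))
    (show (R.σ h).trace * ζ = 1 * ζ by linear_combination h1 - hζ)

theorem trace_of_ten {h : H} (hh : orderOf h = 10) :
    (R.σ h).trace ^ 2 = (R.σ h).trace + 1 := by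
  obtain ⟨ζ, hζ⟩ := exists_root (R.σ h).trace
  have hp := R.isPrimitiveRoot h hζ
  rw [hh] at hp
  have h5 : ζ ^ 5 = -1 := by
    refine eq_neg_of_add_eq_zero_left (mul_left_cancel₀ (sub_ne_zero.mpr
      (hp.pow_ne_one_of_pos_of_lt (l := 5) (by norm_num) (by norm_num))) ?_)
    linear_combination hp.pow_eq_one
  have h1 : ζ ^ 4 - ζ ^ 3 + ζ ^ 2 - ζ + 1 = 0 := by
    have hne : ζ + 1 ≠ 0 := fun h0 => hp.pow_ne_one_of_pos_of_lt (l := 2) (by norm_num) (by norm_num)
      (by rw [eq_neg_of_add_eq_zero_left h0]; norm_num)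
    refine mul_left_cancel₀ hne ?_
    linear_combination h5
  refine mul_right_cancel₀ (pow_ne_zero 2 (hp.ne_zero (by norm_num))) ?_
  linear_combination h1 + (-(R.σ h).trace * ζ + ζ - ζ ^ 2 - 1) * hζ

theorem sq_of_trace (M : Matrix (Fin 2) (Fin 2) ℂ) (hM : M.det = 1) :
    M * M = M.trace • M - 1 := by
  rw [Matrix.det_fin_two] at hM
  ext i j
  fin_cases i <;> fin_cases j <;>
    simp [Matrix.mul_apply, Fin.sum_univ_two, Matrix.trace_fin_two]
  all_goals first
    | linear_combination (-1 : ℂ) * hM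
    | ring

theorem map_inv_eq (h : H) : R.σ h⁻¹ = (R.σ h).adjugate := by
  have h1 : R.σ h⁻¹ * R.σ h = 1 := by rw [← map_mul, inv_mul_cancel, map_one]
  calc R.σ h⁻¹ = R.σ h⁻¹ * (R.σ h * (R.σ h).adjugate) := by
        rw [Matrix.mul_adjugate, R.det_eq, one_smul, mul_one]
    _ = (R.σ h).adjugate := by rw [← mul_assoc, h1, one_mul]

theorem trace_mul_inv (a b : H) : (R.σ (a * b⁻¹)).trace
    = (R.σ a).trace * (R.σ b).trace - (R.σ (a * b)).trace := by
  rw [map_mul, map_mul, R.map_inv_eq]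
  simp [Matrix.trace_fin_two, Matrix.mul_apply, Fin.sum_univ_two, Matrix.adjugate_fin_two]
  ring

theorem trace_commutator (a b : H) : (R.σ (a * b * a⁻¹ * b⁻¹)).trace
    = (R.σ a).trace ^ 2 + (R.σ b).trace ^ 2 + (R.σ (a * b)).trace ^ 2
      - (R.σ a).trace * (R.σ b).trace * (R.σ (a * b)).trace - 2 := by
  have ha := R.det_eq a
  have hb := R.det_eq b
  rw [Matrix.det_fin_two] at ha hb
  simp only [map_mul, R.map_inv_eq]
  simp [Matrix.trace_fin_two, Matrix.mul_apply, Fin.sum_univ_two, Matrix.adjugate_fin_two]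
  generalize R.σ a 0 0 = p, R.σ a 0 1 = q, R.σ a 1 0 = r, R.σ a 1 1 = s,
    R.σ b 0 0 = e, R.σ b 0 1 = f, R.σ b 1 0 = g, R.σ b 1 1 = h at ha hb ⊢
  grind

theorem re_bound {η ω : ℂ} {θ : ℝ} (hη : η = Complex.exp (θ * Complex.I)) {m : ℕ} (hm : m ≠ 0)
    (hω : ω ^ m = 1) (hω1 : ω ≠ 1) (h : (η + η⁻¹) * (η + η⁻¹ - 1) = ω + ω⁻¹) :
    -1 < 2 * Real.cos θ := by
  have h1 : η + η⁻¹ = ((2 * Real.cos θ : ℝ) : ℂ) := by
    rw [hη, ← Complex.exp_neg, Complex.ofReal_mul, Complex.ofReal_cos, Complex.ofReal_ofNat,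
      Complex.two_cos, neg_mul]
  have hn : ‖ω‖ = 1 := Complex.norm_eq_one_of_pow_eq_one hω hm
  rw [h1, Complex.inv_eq_conj hn, Complex.add_conj] at h
  have h2 : 2 * Real.cos θ * (2 * Real.cos θ - 1) = 2 * ω.re := by exact_mod_cast h
  have h3 : ω.re < 1 := by
    rcases lt_or_eq_of_le (hn ▸ Complex.re_le_norm ω) with h3 | h3
    · exact h3
    · exfalso
      refine hω1 (Complex.ext (by simpa using h3) ?_)
      have : ω.re ^ 2 + ω.im ^ 2 = 1 := by
        have := Complex.sq_norm ω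
        rw [hn, Complex.normSq_apply] at this
        linarith
      have : ω.im ^ 2 = 0 := by rw [h3] at this; linarith
      simpa using this
  nlinarith

include R in
theorem orderOf_mul_cases [Finite H] {a b : H} (ha : orderOf a = 3) (hb : orderOf b = 3)
    (hab : a * b ≠ b * a) : orderOf (a * b) = 4 ∨ orderOf (a * b) = 6 ∨ orderOf (a * b) = 10 := by
  set n := orderOf (a * b) with hn
  have hn0 : 0 < n := orderOf_pos _
  obtain ⟨ζ, hζ⟩ := exists_root (R.σ (a * b)).trace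
  have hp := R.isPrimitiveRoot _ hζ
  rw [← hn] at hp
  set c := a * b * a⁻¹ * b⁻¹ with hc
  obtain ⟨ξ, hξ⟩ := exists_root (R.σ c).trace
  have hq := R.isPrimitiveRoot _ hξ
  have hξ1 : ξ ≠ 1 := by
    intro h1
    rw [h1] at hq
    have h2 : c = 1 := orderOf_eq_one_iff.mp ((IsPrimitiveRoot.one (M := ℂ)).unique hq).symm
    apply hab
    have h3 := congrArg (· * (b * a)) h2
    simpa [hc, mul_assoc] using h3
  have hrel : (ζ + ζ⁻¹) * (ζ + ζ⁻¹ - 1) = ξ + ξ⁻¹ - ((ζ + ζ⁻¹) * 2 - (ζ + ζ⁻¹) * 2) := by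
    rw [← R.trace_eq_of_root _ hζ, ← R.trace_eq_of_root _ hξ, hc, R.trace_commutator,
      R.trace_of_three ha, R.trace_of_three hb]
    ring
  rw [sub_self, sub_zero] at hrel
  -- every primitive root of the same order gives a bound
  have key : ∀ j : ℕ, j.Coprime n → -1 < 2 * Real.cos (2 * Real.pi * j / n) := by
    intro j hj
    set η := Complex.exp (2 * Real.pi * Complex.I * (j / n)) with hη
    have hηp : IsPrimitiveRoot η n := Complex.isPrimitiveRoot_exp_of_coprime j n hn0.ne' hj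
    haveI : NeZero n := ⟨hn0.ne'⟩
    obtain ⟨k, -, hk⟩ := hp.eq_pow_of_pow_eq_one hηp.pow_eq_one
    have hkc : k.Coprime n := (hp.pow_iff_coprime hn0 k).mp (hk ▸ hηp)
    obtain ⟨τ, hτ⟩ := OddChar.exists_aut_pow hn0.ne' hkc
    have hτζ : τ ζ = η := by rw [hτ ζ hp.pow_eq_one, hk]
    refine re_bound (η := η) (ω := τ ξ) (m := orderOf c) ?_ (orderOf_pos c).ne' ?_ ?_ ?_
    · rw [hη]; push_cast; congr 1; ring
    · rw [← map_pow, hq.pow_eq_one, map_one]
    · exact fun h1 => hξ1 (τ.injective (h1.trans τ.map_one.symm))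
    · rw [← hτζ, ← map_inv₀ τ, ← map_inv₀ τ, ← map_add, ← map_one τ, ← map_sub, ← map_mul,
        ← map_add, hrel]
  have hlow : ∀ j : ℕ, n ≤ 3 * j → 2 * j ≤ n → ¬ j.Coprime n := by
    intro j h1 h2 hj
    have h3 := key j hj
    have h4 : Real.cos (2 * Real.pi * j / n) ≤ Real.cos (2 * Real.pi / 3) := by
      refine Real.cos_le_cos_of_nonneg_of_le_pi (by positivity) ?_ ?_
      · rw [div_le_iff₀ (by exact_mod_cast hn0)]
        have : (2 : ℝ) * j ≤ n := by exact_mod_cast h2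
        nlinarith [Real.pi_pos]
      · rw [div_le_div_iff₀ (by norm_num) (by exact_mod_cast hn0)]
        have : (n : ℝ) ≤ 3 * j := by exact_mod_cast h1
        nlinarith [Real.pi_pos]
    have h5 : Real.cos (2 * Real.pi / 3) = -1 / 2 := by
      rw [show 2 * Real.pi / 3 = Real.pi - Real.pi / 3 by ring, Real.cos_pi_sub, Real.cos_pi_div_three]
      ring
    linarith
  have hne1 : n ≠ 1 := fun h1 => hab (by
    rw [orderOf_eq_one_iff] at h1
    rw [h1, eq_inv_of_mul_eq_one_left h1, mul_inv_cancel])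
  rcases Nat.even_or_odd n with ⟨m, hm⟩ | ⟨m, hm⟩
  · rcases Nat.even_or_odd m with ⟨k, hk⟩ | ⟨k, hk⟩
    · by_cases h4 : n = 4
      · exact Or.inl h4
      exfalso
      refine hlow (2 * k - 1) (by omega) (by omega) ?_
      refine Nat.Coprime.symm (Nat.coprime_of_dvd fun q hq hqn hqj => ?_)
      have hd : q ∣ n - 2 * (2 * k - 1) := Nat.dvd_sub hqn (dvd_mul_of_dvd_right hqj _)
      rw [show n - 2 * (2 * k - 1) = 2 by omega, Nat.prime_dvd_prime_iff_eq hq Nat.prime_two] at hd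
      subst hd; omega
    · by_cases h2 : n = 2
      · exfalso
        exact hlow 1 (by omega) (by omega) (Nat.coprime_one_left n)
      by_cases h6 : n = 6
      · exact Or.inr (Or.inl h6)
      by_cases h10 : n = 10
      · exact Or.inr (Or.inr h10)
      exfalso
      refine hlow (2 * k - 1) (by omega) (by omega) ?_
      refine Nat.Coprime.symm (Nat.coprime_of_dvd fun q hq hqn hqj => ?_)
      have hd : q ∣ n - 2 * (2 * k - 1) := Nat.dvd_sub hqn (dvd_mul_of_dvd_right hqj _)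
      rw [show n - 2 * (2 * k - 1) = 2 ^ 2 by omega] at hd
      have := (Nat.prime_dvd_prime_iff_eq hq Nat.prime_two).mp (hq.dvd_of_dvd_pow hd)
      subst this; omega
  · exfalso
    refine hlow m (by omega) (by omega) ?_
    refine Nat.coprime_of_dvd fun q hq hqm hqn => ?_
    have hd : q ∣ n - 2 * m := Nat.dvd_sub hqn (dvd_mul_of_dvd_right hqm _)
    rw [show n - 2 * m = 1 by omega] at hd
    exact hq.ne_one (Nat.dvd_one.mp hd)

/-- Change of basis. -/
noncomputable def conj (P : Matrix (Fin 2) (Fin 2) ℂ) (hP : IsUnit P.det) : Rep2 H where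
  σ :=
    { toFun := fun h => P⁻¹ * R.σ h * P
      map_one' := by rw [map_one, mul_one, Matrix.nonsing_inv_mul _ hP]
      map_mul' := fun a b => by
        rw [map_mul]
        calc P⁻¹ * (R.σ a * R.σ b) * P = P⁻¹ * R.σ a * (P * P⁻¹) * R.σ b * P := by
              rw [Matrix.mul_nonsing_inv _ hP, mul_one]; simp only [mul_assoc]
          _ = P⁻¹ * R.σ a * P * (P⁻¹ * R.σ b * P) := by simp only [mul_assoc] }
  det_eq h := by
    show (P⁻¹ * R.σ h * P).det = 1
    rw [Matrix.det_mul, Matrix.det_mul, R.det_eq, mul_one, ← Matrix.det_mul,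
      Matrix.nonsing_inv_mul _ hP, Matrix.det_one]
  fpf h hh v hv := by
    have hv' : P⁻¹ *ᵥ (R.σ h *ᵥ (P *ᵥ v)) = v := by
      rw [Matrix.mulVec_mulVec, Matrix.mulVec_mulVec]; exact hv
    have h1 := congrArg (P *ᵥ ·) hv'
    rw [Matrix.mulVec_mulVec, Matrix.mul_nonsing_inv _ hP, Matrix.one_mulVec] at h1
    have h2 : P *ᵥ v = 0 := R.fpf h hh _ h1
    have h3 := congrArg (P⁻¹ *ᵥ ·) h2
    simpa [Matrix.mulVec_mulVec, Matrix.nonsing_inv_mul _ hP] using h3

/-- Normal form of a pair of noncommuting elements of order three. -/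
theorem exists_normal_form {a b : H} (ha : orderOf a = 3) (hb : orderOf b = 3)
    (hab : a * b ≠ b * a) {ζ : ℂ} (hζ : ζ ^ 2 - (R.σ (a * b)).trace * ζ + 1 = 0) :
    ∃ R' : Rep2 H, R'.σ a = AM ∧ R'.σ b = BM (-ζ⁻¹) ∧
      ∀ h, (R'.σ h).trace = (R.σ h).trace := by
  have htr : (R.σ (b * a)).trace = (R.σ (a * b)).trace := by
    rw [map_mul, map_mul, Matrix.trace_mul_comm]
  obtain ⟨v, hv, hvz⟩ := exists_eigen (R.det_eq (b * a)) (ζ := ζ) (by rw [htr]; exact hζ)
  rw [map_mul] at hvz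
  have hz0 : ζ ≠ 0 := fun h0 => by rw [h0] at hζ; norm_num at hζ
  set A := R.σ a with hA
  set B := R.σ b with hB
  have hAq : A * A = -A - 1 := by
    rw [sq_of_trace A (R.det_eq a), hA, R.trace_of_three ha, neg_one_smul]
  have hBq : B * B = -B - 1 := by
    rw [sq_of_trace B (R.det_eq b), hB, R.trace_of_three hb, neg_one_smul]
  set w := A *ᵥ v with hw
  have hBw : B *ᵥ w = ζ • v := by rw [hw, Matrix.mulVec_mulVec, hvz]
  let P : Matrix (Fin 2) (Fin 2) ℂ := !![v 0, w 0; v 1, w 1]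
  have hP : IsUnit P.det := by
    rw [isUnit_iff_ne_zero]
    intro h0
    simp [P, Matrix.det_fin_two] at h0
    obtain ⟨μ, hμ⟩ : ∃ μ : ℂ, w = μ • v := by
      by_cases h : v 0 = 0
      · have h1 : v 1 ≠ 0 := fun h1 => hv (funext fun i => by fin_cases i <;> assumption)
        refine ⟨w 1 / v 1, funext fun i => ?_⟩
        fin_cases i
        · rw [h] at h0
          have : w 0 = 0 := by
            rcases mul_eq_zero.mp (show w 0 * v 1 = 0 by linear_combination -h0) with h2 | h2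
            · exact h2
            · exact absurd h2 h1
          simp [this, h]
        · simp [div_mul_cancel₀ _ h1]
      · refine ⟨w 0 / v 0, funext fun i => ?_⟩
        fin_cases i
        · simp [div_mul_cancel₀ _ h]
        · simp only [Fin.mk_one, Pi.smul_apply, smul_eq_mul]
          rw [div_mul_eq_mul_div, eq_div_iff h]
          linear_combination h0
    have hμ0 : μ ≠ 0 := by
      intro h1
      rw [hμ, h1, zero_smul, Matrix.mulVec_zero] at hBw
      exact hv (funext fun i => by simpa [hz0] using (congrFun hBw i).symm)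
    have hBv : B *ᵥ v = (ζ / μ) • v := by
      rw [hμ, Matrix.mulVec_smul] at hBw
      rw [div_eq_inv_mul, ← smul_smul, ← hBw, smul_smul, inv_mul_cancel₀ hμ0, one_smul]
    have hAv : A *ᵥ v = μ • v := hμ
    apply hab
    have h1 : R.σ (a * b) *ᵥ v = R.σ (b * a) *ᵥ v := by
      rw [map_mul, map_mul, ← Matrix.mulVec_mulVec, ← Matrix.mulVec_mulVec, ← hA, ← hB, hBv, hAv,
        Matrix.mulVec_smul, Matrix.mulVec_smul, hBv, hAv, smul_smul, smul_smul, mul_comm]
    have h2 := R.eq_one hv (h := (b * a)⁻¹ * (a * b)) (by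
      rw [map_mul, ← Matrix.mulVec_mulVec, h1, Matrix.mulVec_mulVec, ← map_mul, inv_mul_cancel,
        map_one, Matrix.one_mulVec])
    exact (inv_mul_eq_one.mp h2).symm
  have hAw : A *ᵥ w = -v - w := by
    rw [hw, Matrix.mulVec_mulVec, hAq, Matrix.sub_mulVec, Matrix.neg_mulVec, Matrix.one_mulVec]
    abel
  have hBv : B *ᵥ v = -v + (-ζ⁻¹) • w := by
    have h1 : B *ᵥ (B *ᵥ w) = -(B *ᵥ w) - w := by
      rw [Matrix.mulVec_mulVec, hBq, Matrix.sub_mulVec, Matrix.neg_mulVec, Matrix.one_mulVec]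
    rw [hBw, Matrix.mulVec_smul] at h1
    funext i
    have h2 := congrFun h1 i
    simp only [Pi.smul_apply, Pi.sub_apply, Pi.neg_apply, Pi.add_apply, smul_eq_mul] at h2 ⊢
    field_simp
    linear_combination h2
  have hz1 : (-ζ⁻¹ : ℂ)⁻¹ = -ζ := by rw [inv_neg, inv_inv]
  have eA : A * P = P * AM := by
    ext i j
    have h1 := congrFun hAw i
    have h2 : w i = (A *ᵥ v) i := rfl
    simp only [Matrix.mulVec, dotProduct, Fin.sum_univ_two, Pi.sub_apply, Pi.neg_apply] at h1 h2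
    fin_cases i <;> fin_cases j <;>
      simp [P, AM, Matrix.mul_apply, Fin.sum_univ_two] at h1 h2 ⊢
    all_goals first
      | linear_combination h1
      | linear_combination -h2
      | linear_combination h2
  have eB : B * P = P * BM (-ζ⁻¹) := by
    ext i j
    have h1 := congrFun hBw i
    have h2 := congrFun hBv i
    simp only [Matrix.mulVec, dotProduct, Fin.sum_univ_two, Pi.add_apply, Pi.neg_apply,
      Pi.smul_apply, smul_eq_mul] at h1 h2
    fin_cases i <;> fin_cases j <;>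
      simp [P, BM, hz1, Matrix.mul_apply, Fin.sum_univ_two] at h1 h2 ⊢
    all_goals first
      | linear_combination h1
      | linear_combination h2
  refine ⟨R.conj P hP, ?_, ?_, fun h => ?_⟩
  · show P⁻¹ * A * P = _
    rw [mul_assoc, eA, ← mul_assoc, Matrix.nonsing_inv_mul _ hP, one_mul]
  · show P⁻¹ * B * P = _
    rw [mul_assoc, eB, ← mul_assoc, Matrix.nonsing_inv_mul _ hP, one_mul]
  · show (P⁻¹ * R.σ h * P).trace = _
    rw [Matrix.trace_mul_cycle, Matrix.mul_nonsing_inv _ hP, one_mul]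

/-- A homomorphism out of a group generated by elements with the same images. -/
theorem exists_hom {K : Type*} [Group K] (R' : Rep2 K) {s : Set H}
    (hs : Subgroup.closure s = ⊤) (f : H → K) (hf : ∀ x ∈ s, R'.σ (f x) = R.σ x) :
    ∃ ψ : H →* K, Function.Injective ψ ∧ ∀ h, R'.σ (ψ h) = R.σ h := by
  let S : Subgroup H :=
    { carrier := {h | ∃ k, R'.σ k = R.σ h}
      one_mem' := ⟨1, by simp⟩
      mul_mem' := by
        rintro a b ⟨k, hk⟩ ⟨l, hl⟩
        exact ⟨k * l, by rw [map_mul, map_mul, hk, hl]⟩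
      inv_mem' := by
        rintro a ⟨k, hk⟩
        refine ⟨k⁻¹, left_inv_eq_right_inv (a := R.σ a) ?_ ?_⟩
        · rw [← hk, ← map_mul, inv_mul_cancel, map_one]
        · rw [← map_mul, mul_inv_cancel, map_one] }
  have hall : ∀ h, ∃ k, R'.σ k = R.σ h := fun h => by
    have h1 : (⊤ : Subgroup H) ≤ S := by
      rw [← hs, Subgroup.closure_le]; exact fun x hx => ⟨f x, hf x hx⟩
    exact h1 (Subgroup.mem_top h)
  choose ψ hψ using hall
  refine ⟨MonoidHom.mk' ψ fun a b => R'.injective (by rw [map_mul, hψ, hψ, hψ, map_mul]),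
    fun a b hab => R.injective ?_, hψ⟩
  rw [← hψ a, ← hψ b]
  exact congrArg R'.σ hab

/-- Two of three elements with equal traces against a pair coincide. -/
theorem eq_or_eq_of_traces [Finite H] {a b : H} (ha : orderOf a = 3) (hb : orderOf b = 3)
    (hab : a * b ≠ b * a) {x y w : H} (hx : orderOf x = 3) (hy : orderOf y = 3) (hw : orderOf w = 3)
    (h1 : (R.σ (y * a)).trace = (R.σ (x * a)).trace)
    (h2 : (R.σ (y * b)).trace = (R.σ (x * b)).trace)
    (h3 : (R.σ (w * a)).trace = (R.σ (x * a)).trace)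
    (h4 : (R.σ (w * b)).trace = (R.σ (x * b)).trace) : x = y ∨ x = w ∨ y = w := by
  obtain ⟨ζ, hζ⟩ := exists_root (R.σ (a * b)).trace
  have hcases := R.orderOf_mul_cases ha hb hab
  have hp := R.isPrimitiveRoot _ hζ
  have hz0 : ζ ≠ 0 := fun h0 => by rw [h0] at hζ; norm_num at hζ
  obtain ⟨R', hA', hB', htr⟩ := R.exists_normal_form ha hb hab hζ
  set z := -ζ⁻¹ with hz
  have hz' : z ≠ 0 := neg_ne_zero.mpr (inv_ne_zero hz0)
  have hnot : ∀ l, 0 < l → l ≤ 3 → ζ ^ l ≠ 1 := fun l hl hl3 =>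
    hp.pow_ne_one_of_pos_of_lt hl.ne' (by omega)
  have hq : z ^ 2 - z + 1 ≠ 0 := by
    intro h0
    rw [hz] at h0
    field_simp at h0
    exact hnot 3 (by norm_num) le_rfl (by linear_combination (ζ - 1) * h0)
  have hz2 : z ^ 2 - 1 ≠ 0 := by
    intro h0
    rw [hz] at h0
    field_simp at h0
    exact hnot 2 (by norm_num) (by norm_num) (by linear_combination -h0)
  rw [← htr (y * a), ← htr (x * a), map_mul, map_mul, hA'] at h1
  rw [← htr (y * b), ← htr (x * b), map_mul, map_mul, hB'] at h2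
  rw [← htr (w * a), ← htr (x * a), map_mul, map_mul, hA'] at h3
  rw [← htr (w * b), ← htr (x * b), map_mul, map_mul, hB'] at h4
  have hzm : z - 1 ≠ 0 := fun h0 => hz2 (by linear_combination (z + 1) * h0)
  have hd : ∀ g : H, orderOf g = 3 → R'.σ g 1 1 = -1 - R'.σ g 0 0 ∧
      -R'.σ g 0 0 - R'.σ g 0 0 ^ 2 - R'.σ g 0 1 * R'.σ g 1 0 = 1 := fun g hg => by
    have h5 := R'.trace_of_three hg
    have h6 := R'.det_eq g
    rw [Matrix.trace_fin_two] at h5
    rw [Matrix.det_fin_two] at h6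
    have h7 : R'.σ g 1 1 = -1 - R'.σ g 0 0 := by linear_combination h5
    rw [h7] at h6
    exact ⟨h7, by linear_combination h6⟩
  obtain ⟨x11, xd⟩ := hd x hx
  obtain ⟨y11, yd⟩ := hd y hy
  obtain ⟨w11, wd⟩ := hd w hw
  have hlin : ∀ g : H, R'.σ g 1 1 = -1 - R'.σ g 0 0 →
      (R'.σ g * AM).trace = (R'.σ x * AM).trace →
      (R'.σ g * BM z).trace = (R'.σ x * BM z).trace →
      (z - 1) * (R'.σ g 0 1 - R'.σ x 0 1) = R'.σ g 0 0 - R'.σ x 0 0 ∧
      (z - 1) * (R'.σ g 1 0 - R'.σ x 1 0) = z * (R'.σ g 0 0 - R'.σ x 0 0) := fun g g11 e1 e2 => by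
    simp [AM, BM, Matrix.trace_fin_two, Matrix.mul_apply, Fin.sum_univ_two, g11, x11] at e1 e2
    field_simp at e2
    have hzp : z + 1 ≠ 0 := fun h0 => hz2 (by linear_combination (z - 1) * h0)
    have e3 : (z - 1) * (R'.σ g 0 1 - R'.σ x 0 1) = R'.σ g 0 0 - R'.σ x 0 0 :=
      mul_left_cancel₀ hzp (by linear_combination e2 - e1)
    exact ⟨e3, by linear_combination e3 - (z - 1) * e1⟩
  obtain ⟨yq, yr⟩ := hlin y y11 h1 h2
  obtain ⟨wq, wr⟩ := hlin w w11 h3 h4
  have hext : ∀ g g' : H, R'.σ g 1 1 = -1 - R'.σ g 0 0 → R'.σ g' 1 1 = -1 - R'.σ g' 0 0 →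
      R'.σ g 0 0 = R'.σ g' 0 0 → (z - 1) * (R'.σ g 0 1 - R'.σ g' 0 1) = 0 →
      (z - 1) * (R'.σ g 1 0 - R'.σ g' 1 0) = 0 → g = g' := fun g g' e11 e11' e00 e01 e10 => by
    refine R'.injective (Matrix.ext fun i j => ?_)
    have f01 := sub_eq_zero.mp ((mul_eq_zero.mp e01).resolve_left hzm)
    have f10 := sub_eq_zero.mp ((mul_eq_zero.mp e10).resolve_left hzm)
    fin_cases i <;> fin_cases j <;> simp [e00, f01, f10, e11, e11']
  set dy := R'.σ y 0 0 - R'.σ x 0 0 with hdy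
  set dw := R'.σ w 0 0 - R'.σ x 0 0 with hdw
  by_cases hy0 : dy = 0
  · exact Or.inl (hext y x y11 x11 (sub_eq_zero.mp hy0) (by rw [yq, hy0])
      (by rw [yr, hy0, mul_zero])).symm
  by_cases hw0 : dw = 0
  · exact Or.inr (Or.inl (hext w x w11 x11 (sub_eq_zero.mp hw0) (by rw [wq, hw0])
      (by rw [wr, hw0, mul_zero])).symm)
  refine Or.inr (Or.inr (hext y w y11 w11 ?_ ?_ ?_))
  all_goals
    have ey : (z - 1) ^ 2 * (1 + 2 * R'.σ x 0 0 + dy) + (z - 1) * R'.σ x 1 0
        + (z - 1) * z * R'.σ x 0 1 + z * dy = 0 := mul_left_cancel₀ hy0 (by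
      linear_combination (-(z - 1) ^ 2) * yd + (z - 1) ^ 2 * xd
        - ((z - 1) * R'.σ y 1 0) * yq - ((z - 1) * R'.σ x 0 1 + dy - dy) * yr - dy * yr)
    have ew : (z - 1) ^ 2 * (1 + 2 * R'.σ x 0 0 + dw) + (z - 1) * R'.σ x 1 0
        + (z - 1) * z * R'.σ x 0 1 + z * dw = 0 := mul_left_cancel₀ hw0 (by
      linear_combination (-(z - 1) ^ 2) * wd + (z - 1) ^ 2 * xd
        - ((z - 1) * R'.σ w 1 0) * wq - ((z - 1) * R'.σ x 0 1 + dw - dw) * wr - dw * wr)
    have hd0 : dy = dw := mul_left_cancel₀ hq (by linear_combination ey - ew)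
  · linear_combination hd0
  · linear_combination yq - wq + hd0
  · linear_combination yr - wr + z * hd0

end Rep2

end Cfsg.Agent.FGS4.Zass
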