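/-
Elements of order three in a group with a fixed-point-free complex representation.
-/
import Cfsg.Agent.FGS4.Zass.Two
import Mathlib.LinearAlgebra.Eigenspace.Triangularizable
import Mathlib.Tactic.NoncommRing
import Mathlib.Analysis.Complex.Polynomial.Basic

set_option autoImplicit false
set_option linter.style.haveILetI false

namespace Cfsg.Agent.FGS4.Zass

open scoped Matrix

/-- A fixed-point-free representation on a finite-dimensional complex space. -/
structure FPFRep (G : Type*) [Group G] (V : Type*) [AddCommGroup V] [Module ℂ V] where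
  ρ : G →* Module.End ℂ V
  fpf : ∀ c, c ≠ 1 → ∀ v, ρ c v = v → v = 0

namespace FPFRep

variable {G V : Type*} [Group G] [AddCommGroup V] [Module ℂ V] (F : FPFRep G V)

theorem apply_mul (a b : G) (v : V) : F.ρ (a * b) v = F.ρ a (F.ρ b v) := by
  rw [map_mul]; rfl

theorem eq_one {c : G} {v : V} (hv : v ≠ 0) (h : F.ρ c v = v) : c = 1 := by
  by_contra h1; exact hv (F.fpf c h1 v h)

theorem eq_of_apply {a b : G} {v : V} (hv : v ≠ 0) (h : F.ρ a v = F.ρ b v) : a = b := by
  have := F.eq_one (c := b⁻¹ * a) hv (by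
    rw [apply_mul, h, ← apply_mul, inv_mul_cancel, map_one]; rfl)
  exact (inv_mul_eq_one.mp this).symm

theorem quad {a : G} (ha : orderOf a = 3) : F.ρ a * F.ρ a = -F.ρ a - 1 := by
  refine LinearMap.ext fun v => ?_
  have hne : a ≠ 1 := fun h => by rw [h, orderOf_one] at ha; exact absurd ha (by norm_num)
  have h3 : F.ρ a (F.ρ a (F.ρ a v)) = v := by
    rw [← apply_mul, ← apply_mul, ← pow_two, ← pow_succ, show 2 + 1 = orderOf a from ha.symm,
      pow_orderOf_eq_one, map_one]; rfl
  have h := F.fpf a hne (F.ρ a (F.ρ a v) + F.ρ a v + v) (by rw [map_add, map_add, h3]; abel)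
  show F.ρ a (F.ρ a v) = -F.ρ a v - v
  linear_combination (norm := module) h

theorem pair_four {a b : G} (ha : orderOf a = 3) (hb : orderOf b = 3) (h : orderOf (a * b) = 4) :
    F.ρ a * F.ρ b = -(F.ρ b * F.ρ a) - F.ρ a - F.ρ b - 1 := by
  refine LinearMap.ext fun v => ?_
  set g := a * b with hg
  have h2 : g ^ 2 ≠ 1 := fun h0 => by
    have := Nat.le_of_dvd (by norm_num) (orderOf_dvd_of_pow_eq_one h0)
    omega
  have hneg : F.ρ g v + F.ρ g⁻¹ v = 0 := by
    refine F.fpf _ h2 _ ?_
    have e1 : g ^ 2 * g = g⁻¹ := by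
      rw [eq_inv_iff_mul_eq_one, ← pow_succ, ← pow_succ, show 2 + 1 + 1 = orderOf g from h.symm,
        pow_orderOf_eq_one]
    have e2 : g ^ 2 * g⁻¹ = g := by group
    rw [map_add, ← apply_mul, ← apply_mul, e1, e2, add_comm]
  have hinv : g⁻¹ = b * b * (a * a) := by
    have ea : a⁻¹ = a * a := inv_eq_of_mul_eq_one_right (by
      rw [← mul_assoc, ← pow_two, ← pow_succ, show 2 + 1 = orderOf a from ha.symm, pow_orderOf_eq_one])
    have eb : b⁻¹ = b * b := inv_eq_of_mul_eq_one_right (by
      rw [← mul_assoc, ← pow_two, ← pow_succ, show 2 + 1 = orderOf b from hb.symm, pow_orderOf_eq_one])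
    rw [hg, mul_inv_rev, ea, eb]
  have qa : ∀ x, F.ρ a (F.ρ a x) = -F.ρ a x - x := fun x => LinearMap.congr_fun (F.quad ha) x
  have qb : ∀ x, F.ρ b (F.ρ b x) = -F.ρ b x - x := fun x => LinearMap.congr_fun (F.quad hb) x
  rw [hinv, apply_mul, apply_mul, apply_mul, apply_mul, qb, qa, map_sub, map_neg] at hneg
  show F.ρ a (F.ρ b v) = -F.ρ b (F.ρ a v) - F.ρ a v - F.ρ b v - v
  linear_combination (norm := module) hneg

/-- Restriction to an invariant plane. -/
theorem exists_rep2 [Finite G] (s : Set G) (hs : ∀ x ∈ s, orderOf x = 3)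
    (hnc : ∀ x ∈ s, ∃ y ∈ s, x * y ≠ y * x) {v w : V} (hv : v ≠ 0) (hw : ∀ κ : ℂ, w ≠ κ • v)
    (hinv : ∀ x ∈ s, (∃ p q : ℂ, F.ρ x v = p • v + q • w) ∧ ∃ p q : ℂ, F.ρ x w = p • v + q • w) :
    Nonempty (Rep2 (Subgroup.closure s)) := by
  let φ : (Fin 2 → ℂ) →ₗ[ℂ] V :=
    (LinearMap.proj 0 : (Fin 2 → ℂ) →ₗ[ℂ] ℂ).smulRight v +
      (LinearMap.proj 1 : (Fin 2 → ℂ) →ₗ[ℂ] ℂ).smulRight w
  have hφ : ∀ x, φ x = x 0 • v + x 1 • w := fun x => rfl
  have hinj : Function.Injective φ := by
    rw [injective_iff_map_eq_zero]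
    intro x hx
    rw [hφ] at hx
    have h1 : x 1 = 0 := by
      by_contra h1
      refine hw (-(x 1)⁻¹ * x 0) ?_
      calc w = (x 1)⁻¹ • (x 1 • w) := by rw [smul_smul, inv_mul_cancel₀ h1, one_smul]
        _ = (-(x 1)⁻¹ * x 0) • v := by
          rw [eq_neg_of_add_eq_zero_right hx, smul_neg, smul_smul, neg_mul, neg_smul]
    rw [h1, zero_smul, add_zero, smul_eq_zero] at hx
    exact funext fun i => by fin_cases i; exacts [hx.resolve_right hv, h1]
  let Good : G → Matrix (Fin 2) (Fin 2) ℂ → Prop := fun g M => ∀ x, F.ρ g (φ x) = φ (M *ᵥ x)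
  have huniq : ∀ g M N, Good g M → Good g N → M = N := fun g M N hM hN =>
    Matrix.toLin'.injective (LinearMap.ext fun x => hinj (by
      rw [Matrix.toLin'_apply, Matrix.toLin'_apply, ← hM, hN]))
  have hgen : ∀ x ∈ s, ∃ M, Good x M := fun x hx => by
    obtain ⟨⟨p, q, hp⟩, r, t, hr⟩ := hinv x hx
    refine ⟨!![p, r; q, t], fun y => ?_⟩
    simp only [hφ, map_add, map_smul, hp, hr, Matrix.mulVec, dotProduct, Fin.sum_univ_two,
      Matrix.of_apply, Matrix.cons_val', Matrix.cons_val_zero, Matrix.cons_val_one,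
      Matrix.cons_val_fin_one]
    module
  have hmul : ∀ g g' M N, Good g M → Good g' N → Good (g * g') (M * N) := fun g g' M N hM hN x => by
    rw [apply_mul, hN, hM, Matrix.mulVec_mulVec]
  have hone : Good 1 1 := fun x => by rw [map_one, Matrix.one_mulVec]; rfl
  have hdetgen : ∀ x ∈ s, ∀ M, Good x M → M.det = 1 := fun x hx M hM => by
    have hne : x ≠ 1 := fun h => by have := hs x hx; rw [h, orderOf_one] at this; omega
    have hq : M * M = -M - 1 := by
      refine Matrix.toLin'.injective (LinearMap.ext fun y => hinj ?_)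
      rw [Matrix.toLin'_apply, Matrix.toLin'_apply, ← (hmul x x M M hM hM), apply_mul,
        Matrix.sub_mulVec, Matrix.neg_mulVec, Matrix.one_mulVec, map_sub, map_neg, ← hM]
      exact LinearMap.congr_fun (F.quad (hs x hx)) _
    have q00 := congrFun (congrFun hq 0) 0
    have q01 := congrFun (congrFun hq 0) 1
    have q10 := congrFun (congrFun hq 1) 0
    have q11 := congrFun (congrFun hq 1) 1
    simp [Matrix.mul_apply, Fin.sum_univ_two] at q00 q01 q10 q11
    have htr : M 0 0 + M 1 1 = -1 := by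
      by_contra hne1
      have hne2 : M 0 0 + M 1 1 + 1 ≠ 0 := fun h => hne1 (by linear_combination h)
      have h01 : M 0 1 = 0 := (mul_eq_zero.mp (show (M 0 0 + M 1 1 + 1) * M 0 1 = 0 by
        linear_combination q01)).resolve_left hne2
      have h10 : M 1 0 = 0 := (mul_eq_zero.mp (show (M 0 0 + M 1 1 + 1) * M 1 0 = 0 by
        linear_combination q10)).resolve_left hne2
      rw [h01, h10] at q00 q11
      have hd : M 0 0 = M 1 1 := by
        rcases mul_eq_zero.mp (show (M 0 0 - M 1 1) * (M 0 0 + M 1 1 + 1) = 0 by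
          linear_combination q00 - q11) with h | h
        · exact sub_eq_zero.mp h
        · exact absurd h hne2
      obtain ⟨y, hy, hxy⟩ := hnc x hx
      obtain ⟨N, hN⟩ := hgen y hy
      have hcom : M * N = N * M := by
        ext i j
        fin_cases i <;> fin_cases j <;> simp [Matrix.mul_apply, Fin.sum_univ_two, h01, h10, hd] <;> ring
      apply hxy
      refine F.eq_of_apply (v := φ ![1, 0]) (fun h => ?_) ?_
      · have := congrFun (hinj (h.trans (map_zero φ).symm)) 0
        simp at this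
      · rw [hmul x y M N hM hN, hmul y x N M hN hM, hcom]
    rw [Matrix.det_fin_two]
    linear_combination (M 0 0) * htr - q00
  let S : Submonoid G :=
    { carrier := {g | ∃ M, Good g M ∧ M.det = 1}
      one_mem' := ⟨1, hone, Matrix.det_one⟩
      mul_mem' := by
        rintro a b ⟨M, hM, hMd⟩ ⟨N, hN, hNd⟩
        exact ⟨M * N, hmul _ _ _ _ hM hN, by rw [Matrix.det_mul, hMd, hNd, one_mul]⟩ }
  have hall : ∀ g : Subgroup.closure s, ∃ M, Good g M ∧ M.det = 1 := fun g => by
    have hg : (g : G) ∈ (Subgroup.closure s).toSubmonoid := g.2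
    rw [Subgroup.closure_toSubmonoid_of_finite] at hg
    refine (Submonoid.closure_le.mpr ?_ hg : (g : G) ∈ S)
    intro x hx
    obtain ⟨M, hM⟩ := hgen x hx
    exact ⟨M, hM, hdetgen x hx M hM⟩
  choose σ hσ hdet using hall
  exact ⟨{
    σ :=
      { toFun := σ
        map_one' := huniq 1 _ _ (hσ 1) hone
        map_mul' := fun a b => huniq _ _ _ (hσ (a * b)) (hmul _ _ _ _ (hσ a) (hσ b)) }
    det_eq := hdet
    fpf := fun h hh x hx => hinj (by
      rw [map_zero]
      refine F.fpf (h : G) (fun e => hh (Subtype.ext e)) _ ?_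
      rw [hσ h x]
      exact congrArg φ hx) }⟩

variable [Finite G] [FiniteDimensional ℂ V] [Nontrivial V]

include F in
theorem eq_or_inv {a b : G} (ha : orderOf a = 3) (hb : orderOf b = 3) (hab : a * b = b * a) :
    b = a ∨ b = a⁻¹ := by
  obtain ⟨l, hl⟩ := Module.End.exists_eigenvalue (F.ρ a)
  let E := Module.End.eigenspace (F.ρ a) l
  have hEb : ∀ x ∈ E, F.ρ b x ∈ E := fun x hx => by
    rw [Module.End.mem_eigenspace_iff] at hx ⊢
    rw [← apply_mul, hab, apply_mul, hx, map_smul]
  haveI : Nontrivial E := Submodule.nontrivial_iff_ne_bot.mpr hl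
  obtain ⟨m, hm⟩ := Module.End.exists_eigenvalue ((F.ρ b).restrict hEb)
  obtain ⟨v, hv, hv0⟩ := Module.End.HasEigenvalue.exists_hasEigenvector hm
  rw [Module.End.mem_eigenspace_iff] at hv
  have hbv : F.ρ b (v : V) = m • (v : V) := congrArg Subtype.val hv
  have hav : F.ρ a (v : V) = l • (v : V) := Module.End.mem_eigenspace_iff.mp v.2
  have hv0' : (v : V) ≠ 0 := fun h => hv0 (Subtype.ext h)
  have hroot : ∀ x : G, orderOf x = 3 → ∀ r : ℂ, F.ρ x (v : V) = r • (v : V) → r ^ 2 + r + 1 = 0 :=
    fun x hx r hr => by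
      have := LinearMap.congr_fun (F.quad hx) (v : V)
      rw [Module.End.mul_apply, hr, map_smul, hr] at this
      simp only [LinearMap.sub_apply, LinearMap.neg_apply, Module.End.one_apply, hr] at this
      have h1 : (r ^ 2 + r + 1) • (v : V) = 0 := by linear_combination (norm := module) this
      exact (smul_eq_zero.mp h1).resolve_right hv0'
  have h1 := hroot a ha l hav
  have h2 := hroot b hb m hbv
  rcases mul_eq_zero.mp (show (m - l) * (m + l + 1) = 0 by linear_combination h2 - h1) with h | h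
  · exact Or.inl (F.eq_of_apply hv0' (by rw [hbv, hav, sub_eq_zero.mp h]))
  · refine Or.inr (eq_inv_of_mul_eq_one_left (F.eq_one hv0' ?_))
    rw [apply_mul, hav, map_smul, hbv, smul_smul,
      show l * m = 1 by linear_combination l * h - h1, one_smul]

include F in
theorem rep2_pair {a b : G} (ha : orderOf a = 3) (hb : orderOf b = 3) (hab : a * b ≠ b * a) :
    Nonempty (Rep2 (Subgroup.closure {a, b})) := by
  obtain ⟨ζ, hζ⟩ := Module.End.exists_eigenvalue (F.ρ (b * a))
  obtain ⟨v, hv, hv0⟩ := hζ.exists_hasEigenvector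
  rw [Module.End.mem_eigenspace_iff, apply_mul] at hv
  set w := F.ρ a v with hw
  have hζ0 : ζ ≠ 0 := by
    rintro rfl
    rw [zero_smul, ← apply_mul] at hv
    have := congrArg (F.ρ (b * a)⁻¹) hv
    rw [← apply_mul, inv_mul_cancel, map_one, map_zero] at this
    exact hv0 this
  have hbv : F.ρ b v = -v + (-ζ⁻¹) • w := by
    have h1 := LinearMap.congr_fun (F.quad hb) w
    simp only [Module.End.mul_apply, hv, map_smul, LinearMap.sub_apply, LinearMap.neg_apply,
      Module.End.one_apply] at h1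
    calc F.ρ b v = ζ⁻¹ • (ζ • F.ρ b v) := by rw [smul_smul, inv_mul_cancel₀ hζ0, one_smul]
      _ = -v + (-ζ⁻¹) • w := by
        rw [h1, smul_sub, smul_neg, smul_smul, inv_mul_cancel₀ hζ0, one_smul]; module
  have haw : F.ρ a w = -v - w := by
    have h1 := LinearMap.congr_fun (F.quad ha) v
    simp only [Module.End.mul_apply, LinearMap.sub_apply, LinearMap.neg_apply,
      Module.End.one_apply] at h1
    rw [h1]; abel
  refine F.exists_rep2 {a, b} (by rintro x (rfl | rfl) <;> assumption) ?_ hv0 (w := w) ?_ ?_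
  · rintro x (rfl | rfl)
    exacts [⟨b, by simp, hab⟩, ⟨a, by simp, Ne.symm hab⟩]
  · intro κ hκ
    apply hab
    refine F.eq_of_apply hv0 ?_
    rw [apply_mul, apply_mul, ← hw, hv, hbv, hκ, map_add, map_neg, map_smul, map_smul, ← hw, hκ]
    have hκ0 : κ ≠ 0 := by
      rintro rfl
      rw [zero_smul] at hκ
      rw [hκ, map_zero] at hv
      exact hv0 ((smul_eq_zero.mp hv.symm).resolve_left hζ0)
    have hbv' : F.ρ b v = (ζ * κ⁻¹) • v := by
      rw [hκ, map_smul] at hv
      rw [mul_comm, ← smul_smul, ← hv, smul_smul, inv_mul_cancel₀ hκ0, one_smul]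
    have hc : -1 + -ζ⁻¹ * κ = ζ * κ⁻¹ := by
      have h1 : F.ρ b v = (-1 + -ζ⁻¹ * κ) • v := by rw [hbv, hκ]; module
      rw [hbv'] at h1
      exact (smul_left_injective ℂ hv0 h1).symm
    have hid : -κ + -ζ⁻¹ * κ * κ = ζ := by
      rw [eq_mul_inv_iff_mul_eq₀ hκ0] at hc
      linear_combination hc
    linear_combination (norm := module) hid • v
  · rintro x (rfl | rfl)
    · exact ⟨⟨0, 1, by rw [← hw]; module⟩, -1, -1, by rw [haw]; module⟩
    · exact ⟨⟨-1, -ζ⁻¹, by rw [hbv]; module⟩, ζ, 0, by rw [hv]; module⟩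

include F in
theorem rep2_triple {a b c : G} (ha : orderOf a = 3) (hb : orderOf b = 3) (hc : orderOf c = 3)
    (hab : orderOf (a * b) = 4) (hac : orderOf (a * c) = 4) :
    Nonempty (Rep2 (Subgroup.closure {a, b, c})) := by
  have hnc : ∀ x : G, orderOf x = 3 → orderOf (a * x) = 4 → a * x ≠ x * a := fun x hx h hcomm => by
    rcases F.eq_or_inv ha hx hcomm with e | e <;> rw [e] at h
    · have : (a * a) ^ 3 = 1 := by
        rw [← pow_two, ← pow_mul, mul_comm, pow_mul, ← ha, pow_orderOf_eq_one, one_pow]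
      have := orderOf_dvd_of_pow_eq_one this
      rw [h] at this; omega
    · rw [mul_inv_cancel, orderOf_one] at h; omega
  have hqA := F.quad ha
  have hqB := F.quad hb
  have hqC := F.quad hc
  have hAB := F.pair_four ha hb hab
  have hAC := F.pair_four ha hc hac
  set A := F.ρ a
  set B := F.ρ b
  set C := F.ρ c
  set S := B * C + C * B + B + C with hS
  have hSB : S * B = B * S := by
    have e : S * B - B * S = C * (B * B) - (B * B) * C + C * B - B * C := by rw [hS]; noncomm_ring
    rw [hqB] at e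
    rw [← sub_eq_zero, e]; noncomm_ring
  have hSC : S * C = C * S := by
    have e : S * C - C * S = B * (C * C) - (C * C) * B + B * C - C * B := by rw [hS]; noncomm_ring
    rw [hqC] at e
    rw [← sub_eq_zero, e]; noncomm_ring
  have e1 : A * (B * C) = B * C * A + B * A + B + C * A + A + 1 := by
    calc A * (B * C) = -(B * (A * C)) - A * C - B * C - C := by
          rw [← mul_assoc, hAB]; noncomm_ring
      _ = _ := by rw [hAC]; noncomm_ring
  have e2 : A * (C * B) = C * B * A + C * A + C + B * A + A + 1 := by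
    calc A * (C * B) = -(C * (A * B)) - A * B - C * B - B := by
          rw [← mul_assoc, hAC]; noncomm_ring
      _ = _ := by rw [hAB]; noncomm_ring
  have hSA : S * A = A * S := by
    rw [hS, mul_add, mul_add, mul_add, e1, e2, hAB, hAC]; noncomm_ring
  set β := B + B + B + 1 - A with hβ
  set γ := C + C + C + 1 - A with hγ
  have hAβ : A * β = -(β * A) - β := by
    rw [hβ, mul_sub, mul_add, mul_add, mul_add, hAB, hqA, sub_mul, add_mul, add_mul, add_mul, hqA]
    noncomm_ring
  have hAγ : A * γ = -(γ * A) - γ := by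
    rw [hγ, mul_sub, mul_add, mul_add, mul_add, hAC, hqA, sub_mul, add_mul, add_mul, add_mul, hqA]
    noncomm_ring
  have hββ : β * β = (-6 : ℂ) • 1 := by
    have e : β * β = 9 • (B * B) + 6 • B - 3 • (A * B + B * A) + 1 - 2 • A + A * A := by
      rw [hβ]; noncomm_ring
    rw [e, hqB, hAB, hqA]
    module
  have hβγ : β * γ + γ * β = 9 • S + (6 : ℂ) • 1 := by
    have e : β * γ + γ * β = 9 • (B * C + C * B) + 6 • B + 6 • C - 3 • (A * B + B * A)
        - 3 • (A * C + C * A) + 2 • 1 - 4 • A + 2 • (A * A) := by rw [hβ, hγ]; noncomm_ring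
    rw [e, hAB, hAC, hqA, hS]
    module
  have hAP : A * (β * γ) = β * γ * A := by
    rw [← mul_assoc, hAβ, sub_mul, neg_mul, mul_assoc β A γ, hAγ]; noncomm_ring
  -- choose a common eigenvector
  obtain ⟨s, hs⟩ := Module.End.exists_eigenvalue S
  let E := Module.End.eigenspace S s
  have hE : ∀ X : Module.End ℂ V, S * X = X * S → ∀ x ∈ E, X x ∈ E := fun X hX x hx => by
    rw [Module.End.mem_eigenspace_iff] at hx ⊢
    have := LinearMap.congr_fun hX x
    simp only [Module.End.mul_apply] at this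
    rw [this, hx, map_smul]
  have hSβ : S * β = β * S :=
    ((((Commute.add_right hSB hSB).add_right hSB).add_right (Commute.one_right S)).sub_right hSA : Commute S β).eq
  have hSγ : S * γ = γ * S :=
    ((((Commute.add_right hSC hSC).add_right hSC).add_right (Commute.one_right S)).sub_right hSA : Commute S γ).eq
  have hSP : S * (β * γ) = β * γ * S := by rw [← mul_assoc, hSβ, mul_assoc, hSγ, mul_assoc]
  haveI : Nontrivial E := Submodule.nontrivial_iff_ne_bot.mpr hs
  obtain ⟨μ, hμ⟩ := Module.End.exists_eigenvalue ((β * γ).restrict (hE _ hSP))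
  let E' := Module.End.eigenspace ((β * γ).restrict (hE _ hSP)) μ
  have hA' : ∀ x ∈ E', A.restrict (hE A hSA) x ∈ E' := fun x hx => by
    rw [Module.End.mem_eigenspace_iff] at hx ⊢
    apply Subtype.ext
    have h0 : (β * γ) (x : V) = μ • (x : V) := congrArg Subtype.val hx
    show (β * γ) (A (x : V)) = μ • A (x : V)
    rw [← Module.End.mul_apply, ← hAP, Module.End.mul_apply, h0, map_smul]
  haveI : Nontrivial E' := Submodule.nontrivial_iff_ne_bot.mpr hμ
  obtain ⟨l, hl⟩ := Module.End.exists_eigenvalue ((A.restrict (hE A hSA)).restrict hA')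
  obtain ⟨u, hu, hu0⟩ := Module.End.HasEigenvalue.exists_hasEigenvector hl
  rw [Module.End.mem_eigenspace_iff] at hu
  set v : V := (((u : E') : E) : V) with hv
  have hv0 : v ≠ 0 := fun h => hu0 (Subtype.ext (Subtype.ext h))
  have hAv : A v = l • v := congrArg (fun t : E' => ((t : E) : V)) hu
  have hSv : S v = s • v := Module.End.mem_eigenspace_iff.mp (u : E).2
  have hPv : β (γ v) = μ • v := congrArg Subtype.val (Module.End.mem_eigenspace_iff.mp u.2)
  set w := β v with hwdef
  have hSw : S w = s • w := by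
    have := LinearMap.congr_fun hSβ v
    simp only [Module.End.mul_apply, hSv, map_smul] at this
    exact this
  have hββ' : ∀ x, β (β x) = (-6 : ℂ) • x := fun x => by
    have := LinearMap.congr_fun hββ x; simpa using this
  have hγv : γ v = (-μ / 6) • w := by
    have h1 := congrArg β hPv
    rw [hββ', map_smul, ← hwdef] at h1
    linear_combination (norm := module) (-1 / 6 : ℂ) • h1
  have hγw : γ w = (9 * s + 6 - μ) • v := by
    have h1 := LinearMap.congr_fun hβγ v
    simp only [LinearMap.add_apply, Module.End.mul_apply, LinearMap.smul_apply,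
      Module.End.one_apply, hPv, ← hwdef] at h1
    rw [hSv] at h1
    linear_combination (norm := module) h1
  have hAw : A w = (-(l + 1)) • w := by
    have h1 := LinearMap.congr_fun hAβ v
    simp only [Module.End.mul_apply, LinearMap.sub_apply, LinearMap.neg_apply, hAv, map_smul,
      ← hwdef] at h1
    linear_combination (norm := module) h1
  have hBv : B v = ((l - 1) / 3) • v + (1 / 3 : ℂ) • w := by
    have h1 : w = B v + B v + B v + v - A v := rfl
    rw [hAv] at h1
    linear_combination (norm := module) (-1 / 3 : ℂ) • h1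
  have hBw : B w = (-2 : ℂ) • v + ((-(l + 2)) / 3) • w := by
    have h1 : β w = B w + B w + B w + w - A w := rfl
    rw [hββ', hAw] at h1
    linear_combination (norm := module) (-1 / 3 : ℂ) • h1
  have hCv : C v = ((l - 1) / 3) • v + (-μ / 18) • w := by
    have h1 : γ v = C v + C v + C v + v - A v := rfl
    rw [hγv, hAv] at h1
    linear_combination (norm := module) (-1 / 3 : ℂ) • h1
  have hCw : C w = ((9 * s + 6 - μ) / 3) • v + ((-(l + 2)) / 3) • w := by
    have h1 : γ w = C w + C w + C w + w - A w := rfl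
    rw [hγw, hAw] at h1
    linear_combination (norm := module) (-1 / 3 : ℂ) • h1
  refine F.exists_rep2 {a, b, c} ?_ ?_ hv0 (w := w) ?_ ?_
  · rintro x (rfl | rfl | rfl) <;> assumption
  · rintro x (rfl | rfl | rfl)
    exacts [⟨b, by simp, hnc b hb hab⟩, ⟨a, by simp, (hnc _ hb hab).symm⟩,
      ⟨a, by simp, (hnc _ hc hac).symm⟩]
  · intro κ hκ
    refine hnc b hb hab (F.eq_of_apply hv0 ?_)
    have hBv' : B v = ((l - 1) / 3 + κ / 3) • v := by rw [hBv, hκ]; module
    rw [apply_mul, apply_mul]
    show A (B v) = B (A v)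
    rw [hBv', hAv, map_smul, map_smul, hAv, hBv', smul_comm]
  · rintro x (rfl | rfl | rfl)
    · exact ⟨⟨l, 0, by rw [hAv]; module⟩, 0, -(l + 1), by rw [hAw]; module⟩
    · exact ⟨⟨_, _, hBv⟩, _, _, hBw⟩
    · exact ⟨⟨_, _, hCv⟩, _, _, hCw⟩

end FPFRep

end Cfsg.Agent.FGS4.Zass
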