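/-
Pairs and triples of elements of order three in a group with a fixed-point-free representation.
-/
import Cfsg.Agent.FGS4.Zass.Sub

set_option autoImplicit false
set_option linter.style.haveILetI false

namespace Cfsg.Agent.FGS4.Zass

open scoped Matrix

theorem inv_three {G : Type*} [Group G] {a : G} (ha : orderOf a = 3) : orderOf a⁻¹ = 3 := by
  rw [orderOf_inv, ha]

theorem orderOf_mul_swap {G : Type*} [Group G] (a b : G) : orderOf (b * a) = orderOf (a * b) := by
  rw [← MulEquiv.orderOf_eq (MulAut.conj a) (b * a), MulAut.conj_apply]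
  congr 1; group

/-- The orders of the key relations in `SL(2,5)`. -/
theorem key_sq_of_four {g : T5} (hg : orderOf g = 4) : kmul (key g) (key g) = (4, 0, 0, 4) := by
  have h1 : ∀ e ∈ table, kmul e.1 e.1 = (1, 0, 0, 1) → e.1 = (1, 0, 0, 1) ∨ e.1 = (4, 0, 0, 4) := by
    decide +kernel
  have h2 : g ^ 2 ≠ 1 := fun h0 => by
    have := Nat.le_of_dvd (by norm_num) (orderOf_dvd_of_pow_eq_one h0); omega
  obtain ⟨e, he, hek⟩ := exists_entry (g * g)
  have h4 : g * g * (g * g) = 1 := by
    rw [← pow_two, ← pow_two, ← pow_mul, show 2 * 2 = orderOf g from hg.symm, pow_orderOf_eq_one]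
  have h5 : kmul e.1 e.1 = (1, 0, 0, 1) := by rw [hek, ← key_mul, h4, key_one]
  rcases h1 e he h5 with h | h
  · exact absurd (key_injective ((hek.symm.trans h).trans key_one.symm)) (pow_two g ▸ h2)
  · rw [← key_mul, ← hek, h]

theorem key_cube_of_six {g : T5} (hg : orderOf g = 6) :
    kmul (kmul (key g) (key g)) (key g) = (4, 0, 0, 4) := by
  have h1 : ∀ e ∈ table, kmul e.1 e.1 = (1, 0, 0, 1) → e.1 = (1, 0, 0, 1) ∨ e.1 = (4, 0, 0, 4) := by
    decide +kernel
  have h2 : g * g * g ≠ 1 := fun h0 => by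
    have := Nat.le_of_dvd (by norm_num : 0 < 3) (orderOf_dvd_of_pow_eq_one
      (show g ^ 3 = 1 by rw [pow_succ, pow_two]; exact h0))
    omega
  obtain ⟨e, he, hek⟩ := exists_entry (g * g * g)
  have h4 : g * g * g * (g * g * g) = 1 := by
    have h6 : g ^ 6 = 1 := hg ▸ pow_orderOf_eq_one g
    simpa only [pow_succ, pow_zero, one_mul, mul_assoc] using h6
  have h5 : kmul e.1 e.1 = (1, 0, 0, 1) := by rw [hek, ← key_mul, h4, key_one]
  rcases h1 e he h5 with h | h
  · exact absurd (key_injective ((hek.symm.trans h).trans key_one.symm)) h2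
  · rw [← key_mul, ← key_mul, ← hek, h]

theorem orderOf_three_of_key {g : T5} (h : kmul (kmul (key g) (key g)) (key g) = (1, 0, 0, 1))
    (h1 : key g ≠ (1, 0, 0, 1)) : orderOf g = 3 := by
  refine orderOf_eq_prime (key_injective ?_) fun e => h1 (by rw [e, key_one])
  rw [pow_succ, pow_two, key_mul, key_mul, h, key_one]

theorem orderOf_four_of_key {g : T5} (h : kmul (key g) (key g) = (4, 0, 0, 4)) : orderOf g = 4 := by
  refine orderOf_eq_prime_pow (p := 2) (n := 1) (fun h0 => ?_) (key_injective ?_)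
  · rw [pow_one, pow_two] at h0
    rw [← key_mul, h0, key_one] at h
    revert h; decide
  · rw [show 2 ^ (1 + 1) = 2 + 2 from rfl, pow_add, pow_two, key_mul, key_mul, h, key_one]; decide

theorem orderOf_six_of_key {g : T5} (h : kmul (kmul (key g) (key g)) (key g) = (4, 0, 0, 4))
    (h2 : kmul (key g) (key g) ≠ (1, 0, 0, 1)) : orderOf g = 6 := by
  refine (orderOf_eq_iff (by norm_num)).mpr ⟨key_injective ?_, fun m hm hm0 he => ?_⟩
  · rw [show 6 = 2 + 1 + (2 + 1) from rfl, pow_add, pow_succ, pow_two, key_mul, key_mul, key_mul, h,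
      key_one]
    decide
  · have hd : orderOf g ∣ Nat.gcd m 6 := Nat.dvd_gcd (orderOf_dvd_of_pow_eq_one he)
      (orderOf_dvd_of_pow_eq_one (key_injective (by
        rw [show 6 = 2 + 1 + (2 + 1) from rfl, pow_add, pow_succ, pow_two, key_mul, key_mul, key_mul,
          h, key_one]
        decide)))
    have h23 : Nat.gcd m 6 ∣ 2 ∨ Nat.gcd m 6 ∣ 3 := by interval_cases m <;> decide
    rcases h23 with h' | h'
    · have := orderOf_dvd_iff_pow_eq_one.mp (hd.trans h')
      rw [pow_two] at this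
      exact h2 (by rw [← key_mul, this, key_one])
    · have := orderOf_dvd_iff_pow_eq_one.mp (hd.trans h')
      rw [pow_succ, pow_two] at this
      rw [← key_mul, ← key_mul, this, key_one] at h
      revert h; decide

theorem orderOf_ten_of_key {g : T5}
    (h : kmul (kmul (kmul (key g) (key g)) (kmul (key g) (key g))) (key g) = (4, 0, 0, 4))
    (h2 : kmul (key g) (key g) ≠ (1, 0, 0, 1)) : orderOf g = 10 := by
  have h5 : key (g ^ 5) = (4, 0, 0, 4) := by
    show key (g ^ (2 + 2 + 1)) = _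
    rw [pow_succ, pow_add, pow_two, key_mul, key_mul, key_mul, h]
  have h10 : g ^ 10 = 1 := key_injective (by
    rw [show 10 = 5 + 5 from rfl, pow_add, key_mul, h5, key_one]; decide)
  have hdiv := orderOf_dvd_of_pow_eq_one h10
  have hn5 : ¬ orderOf g ∣ 5 := fun hd => by
    rw [orderOf_dvd_iff_pow_eq_one] at hd
    rw [hd, key_one] at h5; revert h5; decide
  have hn2 : ¬ orderOf g ∣ 2 := fun hd => by
    rw [orderOf_dvd_iff_pow_eq_one, pow_two] at hd
    exact h2 (by rw [← key_mul, hd, key_one])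
  have hle := Nat.le_of_dvd (by norm_num) hdiv
  interval_cases hh : orderOf g <;> revert hdiv hn5 hn2 <;> decide

theorem orderOf_A5 : orderOf A5 = 3 :=
  orderOf_three_of_key (by rw [key_A5]; decide) (by rw [key_A5]; decide)

theorem orderOf_B5 : orderOf B5 = 3 :=
  orderOf_three_of_key (by rw [key_B5]; decide) (by rw [key_B5]; decide)

theorem orderOf_Y5 : orderOf Y5 = 3 :=
  orderOf_three_of_key (by rw [key_Y5]; decide) (by rw [key_Y5]; decide)

theorem orderOf_A5B5 : orderOf (A5 * B5) = 10 :=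
  orderOf_ten_of_key (by rw [key_mul, key_A5, key_B5]; decide) (by rw [key_mul, key_A5, key_B5]; decide)

theorem orderOf_A5Y5 : orderOf (A5 * Y5) = 4 :=
  orderOf_four_of_key (by rw [key_mul, key_A5, key_Y5]; decide)

theorem exists_hz : ∃ z : ℂ, 1 + z + z ^ 2 + z ^ 3 + z ^ 4 = 0 := by
  have h := Complex.isPrimitiveRoot_exp 5 (by norm_num)
  refine ⟨Complex.exp (2 * Real.pi * Complex.I / (5 : ℕ)), ?_⟩
  have h2 := h.geom_sum_eq_zero (by norm_num)
  simpa [Finset.sum_range_succ] using h2

/-- The representation of `SL(2,5)` as a `Rep2`. -/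
noncomputable def rep5 (z : ℂ) (hz : 1 + z + z ^ 2 + z ^ 3 + z ^ 4 = 0) : Rep2 T5 where
  σ := phi z hz
  det_eq := phi_det z hz
  fpf g hg v hv := by
    by_contra hv0
    have hd : (phi z hz g - 1).det = 0 := Matrix.exists_mulVec_eq_zero_iff.mp
      ⟨v, hv0, by rw [Matrix.sub_mulVec, hv, Matrix.one_mulVec, sub_self]⟩
    have h1 := phi_det z hz g
    refine phi_trace_ne_two z hz g hg ?_
    rw [Matrix.det_fin_two] at hd h1
    simp at hd
    rw [Matrix.trace_fin_two]
    linear_combination h1 - hd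

namespace FPFRep

variable {G V : Type*} [Group G] [Finite G] [AddCommGroup V] [Module ℂ V] [FiniteDimensional ℂ V]
  [Nontrivial V] (F : FPFRep G V)

include F

theorem noncomm_of_order {a b : G} (ha : orderOf a = 3) (hb : orderOf b = 3)
    (h : orderOf (a * b) = 4 ∨ orderOf (a * b) = 6 ∨ orderOf (a * b) = 10) : a * b ≠ b * a := by
  intro hc
  rcases F.eq_or_inv ha hb hc with e | e <;> rw [e] at h
  · have : (a * a) ^ 3 = 1 := by
      rw [← pow_two, ← pow_mul, mul_comm, pow_mul, ← ha, pow_orderOf_eq_one, one_pow]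
    have := orderOf_dvd_of_pow_eq_one this
    rcases h with h | h | h <;> rw [h] at this <;> omega
  · rw [mul_inv_cancel, orderOf_one] at h; omega

theorem mul_cases {a b : G} (ha : orderOf a = 3) (hb : orderOf b = 3) (hab : a * b ≠ b * a) :
    orderOf (a * b) = 4 ∨ orderOf (a * b) = 6 ∨ orderOf (a * b) = 10 := by
  obtain ⟨R⟩ := F.rep2_pair ha hb hab
  let a' : Subgroup.closure {a, b} := ⟨a, Subgroup.subset_closure (by simp)⟩
  let b' : Subgroup.closure {a, b} := ⟨b, Subgroup.subset_closure (by simp)⟩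
  have := R.orderOf_mul_cases (a := a') (b := b') ((Subgroup.orderOf_coe a').symm.trans ha)
    ((Subgroup.orderOf_coe b').symm.trans hb) (fun h => hab (congrArg Subtype.val h))
  rwa [← Subgroup.orderOf_coe (a' * b')] at this

theorem inv_switch {a b : G} (ha : orderOf a = 3) (hb : orderOf b = 3) :
    (orderOf (a * b) = 4 → orderOf (a * b⁻¹) = 6) ∧ (orderOf (a * b) = 6 → orderOf (a * b⁻¹) = 4) ∧
      (orderOf (a * b) = 10 → orderOf (a * b⁻¹) = 10) := by
  suffices h : orderOf (a * b) = 4 ∨ orderOf (a * b) = 6 ∨ orderOf (a * b) = 10 →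
      (orderOf (a * b) = 4 → orderOf (a * b⁻¹) = 6) ∧
      (orderOf (a * b) = 6 → orderOf (a * b⁻¹) = 4) ∧
      (orderOf (a * b) = 10 → orderOf (a * b⁻¹) = 10) by
    exact ⟨fun e => (h (Or.inl e)).1 e, fun e => (h (Or.inr (Or.inl e))).2.1 e,
      fun e => (h (Or.inr (Or.inr e))).2.2 e⟩
  intro hor
  have hab := F.noncomm_of_order ha hb hor
  obtain ⟨R⟩ := F.rep2_pair ha hb hab
  let a' : Subgroup.closure {a, b} := ⟨a, Subgroup.subset_closure (by simp)⟩
  let b' : Subgroup.closure {a, b} := ⟨b, Subgroup.subset_closure (by simp)⟩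
  have ha' : orderOf a' = 3 := (Subgroup.orderOf_coe a').symm.trans ha
  have hb' : orderOf b' = 3 := (Subgroup.orderOf_coe b').symm.trans hb
  have hcases := F.mul_cases ha (inv_three hb) (fun h => hab (by
    have h1 := congrArg (fun t => b * t * b) h
    simpa [mul_assoc] using h1.symm))
  have htr := R.trace_mul_inv a' b'
  rw [R.trace_of_three ha', R.trace_of_three hb'] at htr
  have e1 : orderOf (a' * b') = orderOf (a * b) := (Subgroup.orderOf_coe _).symm
  have e2 : orderOf (a' * b'⁻¹) = orderOf (a * b⁻¹) := (Subgroup.orderOf_coe _).symm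
  refine ⟨fun h => ?_, fun h => ?_, fun h => ?_⟩ <;> rcases hcases with g | g | g <;>
    first
      | exact g
      | (exfalso
         first
           | have t1 := R.trace_of_four (e1.trans h)
           | have t1 := R.trace_of_six (e1.trans h)
           | have t1 := R.trace_of_ten (e1.trans h)
         first
           | have t2 := R.trace_of_four (e2.trans g)
           | have t2 := R.trace_of_six (e2.trans g)
           | have t2 := R.trace_of_ten (e2.trans g)
         rw [htr] at t2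
         first
           | (rw [t1] at t2; norm_num at t2)
           | (have t3 := eq_neg_of_add_eq_zero_left t2; norm_num at t2 t3)
           | (have : (R.σ (a' * b')).trace = 1 := by linear_combination -t2
              rw [this] at t1; norm_num at t1)
           | (have : (R.σ (a' * b')).trace = 0 := by linear_combination -t2
              rw [this] at t1; norm_num at t1))

/-- Identification of the subgroup generated by a pair with product of order four. -/
theorem exists_hom_four {a b : G} (ha : orderOf a = 3) (hb : orderOf b = 3)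
    (h : orderOf (a * b) = 4) :
    ∃ ψ : Subgroup.closure {a, b} →* T5, Function.Injective ψ ∧
      (∀ x : Subgroup.closure {a, b}, (x : G) = a → ψ x = A5) ∧
      (∀ x : Subgroup.closure {a, b}, (x : G) = b → ψ x = Y5) := by
  classical
  have hab := F.noncomm_of_order ha hb (Or.inl h)
  obtain ⟨R⟩ := F.rep2_pair ha hb hab
  let a' : Subgroup.closure {a, b} := ⟨a, Subgroup.subset_closure (by simp)⟩
  let b' : Subgroup.closure {a, b} := ⟨b, Subgroup.subset_closure (by simp)⟩
  have ha' : orderOf a' = 3 := (Subgroup.orderOf_coe a').symm.trans ha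
  have hb' : orderOf b' = 3 := (Subgroup.orderOf_coe b').symm.trans hb
  have hab' : a' * b' ≠ b' * a' := fun e => hab (congrArg Subtype.val e)
  have hI : ∀ {H : Type _} [Group H] (S : Rep2 H) (g : H), orderOf g = 4 →
      Complex.I ^ 2 - (S.σ g).trace * Complex.I + 1 = 0 := fun S g hg => by
    rw [S.trace_of_four hg, Complex.I_sq]; ring
  obtain ⟨R₁, hA₁, hB₁, -⟩ := R.exists_normal_form ha' hb' hab'
    (hI R (a' * b') ((Subgroup.orderOf_coe _).symm.trans h))
  obtain ⟨z, hz⟩ := exists_hz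
  have hne : A5 * Y5 ≠ Y5 * A5 := fun e => by
    have := congrArg key e
    rw [key_mul, key_mul, key_A5, key_Y5] at this
    revert this; decide
  have hI5 : Complex.I ^ 2 - ((rep5 z hz).σ (A5 * Y5)).trace * Complex.I + 1 = 0 := by
    rw [(rep5 z hz).trace_of_four orderOf_A5Y5, Complex.I_sq]; ring
  obtain ⟨R₂, hA₂, hB₂, -⟩ := (rep5 z hz).exists_normal_form orderOf_A5 orderOf_Y5 hne hI5
  have hne' : b' ≠ a' := fun e => hab' (by rw [e])
  obtain ⟨ψ, hψ, hψσ⟩ := R₁.exists_hom R₂
    (s := Subtype.val ⁻¹' ({a, b} : Set G)) (Subgroup.closure_closure_coe_preimage)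
    (fun x => if x = a' then A5 else Y5) (fun x hx => by
      rcases hx with e | e
      · obtain rfl : x = a' := Subtype.ext e
        rw [if_pos rfl, hA₁, hA₂]
      · obtain rfl : x = b' := Subtype.ext e
        rw [if_neg hne', hB₁, hB₂])
  refine ⟨ψ, hψ, fun x hx => R₂.injective ?_, fun x hx => R₂.injective ?_⟩
  · obtain rfl : x = a' := Subtype.ext hx
    rw [hψσ, hA₁, hA₂]
  · obtain rfl : x = b' := Subtype.ext hx
    rw [hψσ, hB₁, hB₂]

/-- Identification of the subgroup generated by a pair with product of order ten. -/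
theorem exists_equiv_ten {a b : G} (ha : orderOf a = 3) (hb : orderOf b = 3)
    (h : orderOf (a * b) = 10) :
    ∃ ψ : Subgroup.closure {a, b} ≃* T5, (ψ.symm A5 : G) = a ∧ (ψ.symm B5 : G) = b := by
  classical
  have hab := F.noncomm_of_order ha hb (Or.inr (Or.inr h))
  obtain ⟨R⟩ := F.rep2_pair ha hb hab
  let a' : Subgroup.closure {a, b} := ⟨a, Subgroup.subset_closure (by simp)⟩
  let b' : Subgroup.closure {a, b} := ⟨b, Subgroup.subset_closure (by simp)⟩
  have ha' : orderOf a' = 3 := (Subgroup.orderOf_coe a').symm.trans ha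
  have hb' : orderOf b' = 3 := (Subgroup.orderOf_coe b').symm.trans hb
  have hab' : a' * b' ≠ b' * a' := fun e => hab (congrArg Subtype.val e)
  have ho : orderOf (a' * b') = 10 := (Subgroup.orderOf_coe _).symm.trans h
  obtain ⟨ζ, hζ⟩ := exists_root (R.σ (a' * b')).trace
  obtain ⟨R₁, hA₁, hB₁, -⟩ := R.exists_normal_form ha' hb' hab' hζ
  have hp := R.isPrimitiveRoot _ hζ
  rw [ho] at hp
  have hz : 1 + (-ζ⁻¹) + (-ζ⁻¹) ^ 2 + (-ζ⁻¹) ^ 3 + (-ζ⁻¹) ^ 4 = 0 := by
    have h0 : ζ ≠ 0 := hp.ne_zero (by norm_num)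
    have h5 : ζ ^ 5 = -1 := by
      refine eq_neg_of_add_eq_zero_left (mul_left_cancel₀ (sub_ne_zero.mpr
        (hp.pow_ne_one_of_pos_of_lt (l := 5) (by norm_num) (by norm_num))) ?_)
      linear_combination hp.pow_eq_one
    have hne : ζ + 1 ≠ 0 := fun h0 => hp.pow_ne_one_of_pos_of_lt (l := 2) (by norm_num) (by norm_num)
      (by rw [eq_neg_of_add_eq_zero_left h0]; norm_num)
    field_simp
    refine mul_left_cancel₀ hne ?_
    linear_combination h5
  have hne' : b' ≠ a' := fun e => hab' (by rw [e])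
  obtain ⟨ψ, hψ, hψσ⟩ := R₁.exists_hom (rep5 _ hz)
    (s := Subtype.val ⁻¹' ({a, b} : Set G)) (Subgroup.closure_closure_coe_preimage)
    (fun x => if x = a' then A5 else B5) (fun x hx => by
      rcases hx with e | e
      · obtain rfl : x = a' := Subtype.ext e
        rw [if_pos rfl, hA₁]; exact phi_A5 _ hz
      · obtain rfl : x = b' := Subtype.ext e
        rw [if_neg hne', hB₁]; exact phi_B5 _ hz)
  have e1 : ψ a' = A5 := (rep5 _ hz).injective (by rw [hψσ, hA₁]; exact (phi_A5 _ hz).symm)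
  have e2 : ψ b' = B5 := (rep5 _ hz).injective (by rw [hψσ, hB₁]; exact (phi_B5 _ hz).symm)
  have hs : Function.Surjective ψ := by
    rw [← MonoidHom.range_eq_top, eq_top_iff, ← closure_AB, Subgroup.closure_le]
    rintro x (rfl | rfl)
    exacts [⟨a', e1⟩, ⟨b', e2⟩]
  refine ⟨MulEquiv.ofBijective ψ ⟨hψ, hs⟩, ?_, ?_⟩
  · rw [show (MulEquiv.ofBijective ψ ⟨hψ, hs⟩).symm A5 = a' from
      (MulEquiv.symm_apply_eq _).mpr e1.symm]
  · rw [show (MulEquiv.ofBijective ψ ⟨hψ, hs⟩).symm B5 = b' from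
      (MulEquiv.symm_apply_eq _).mpr e2.symm]

omit F in
/-- The conjugates of `b` by powers of `a`. -/
def cj (a b : G) (j : Fin 3) : G := a ^ (j : ℕ) * b * (a ^ (j : ℕ))⁻¹

/-- The triangle condition. -/
theorem line_unique {a b c : G} (ha : orderOf a = 3) (hb : orderOf b = 3) (hc : orderOf c = 3)
    (hab : orderOf (a * b) = 4) (hac : orderOf (a * c) = 4) (hne : ∀ j, c ≠ cj a b j) :
    ∃! j, orderOf (cj a b j * c) ≠ 10 := by
  classical
  obtain ⟨R⟩ := F.rep2_triple ha hb hc hab hac
  let a' : Subgroup.closure {a, b, c} := ⟨a, Subgroup.subset_closure (by simp)⟩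
  let b' : Subgroup.closure {a, b, c} := ⟨b, Subgroup.subset_closure (by simp)⟩
  let c' : Subgroup.closure {a, b, c} := ⟨c, Subgroup.subset_closure (by simp)⟩
  have ha' : orderOf a' = 3 := (Subgroup.orderOf_coe a').symm.trans ha
  have hb' : orderOf b' = 3 := (Subgroup.orderOf_coe b').symm.trans hb
  have hc' : orderOf c' = 3 := (Subgroup.orderOf_coe c').symm.trans hc
  have hab' : a' * b' ≠ b' * a' := fun e =>
    F.noncomm_of_order ha hb (Or.inl hab) (congrArg Subtype.val e)
  have h4 : orderOf (a' * b') = 4 := (Subgroup.orderOf_coe _).symm.trans hab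
  obtain ⟨S, hA, hB, -⟩ := R.exists_normal_form ha' hb' hab' (ζ := Complex.I)
    (by rw [R.trace_of_four h4, Complex.I_sq]; ring)
  rw [Complex.inv_I, neg_neg] at hB
  have hBI : BM Complex.I = !![-1, Complex.I; Complex.I, 0] := by
    simp [BM, Complex.inv_I]
  rw [hBI] at hB
  have hAinv : S.σ a'⁻¹ = !![-1, 1; -1, 0] := by
    rw [S.map_inv_eq, hA, AM, Matrix.adjugate_fin_two]; simp
  have hA2 : S.σ (a' ^ 2) = !![-1, 1; -1, 0] := by
    rw [← hAinv]
    refine congrArg S.σ (eq_inv_of_mul_eq_one_left ?_)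
    rw [← pow_succ, show 2 + 1 = orderOf a' from ha'.symm, pow_orderOf_eq_one]
  have hA2inv : S.σ (a' ^ 2)⁻¹ = AM := by
    rw [← hA]
    refine congrArg S.σ (inv_eq_of_mul_eq_one_right ?_)
    rw [← pow_succ, show 2 + 1 = orderOf a' from ha'.symm, pow_orderOf_eq_one]
  set p := S.σ c' 0 0 with hp
  set q := S.σ c' 0 1 with hq
  set r := S.σ c' 1 0 with hr
  have h11 : S.σ c' 1 1 = -1 - p := by
    have := S.trace_of_three hc'
    rw [Matrix.trace_fin_two] at this
    linear_combination this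
  have hdet : p * (-1 - p) - q * r = 1 := by
    rw [← h11, ← Matrix.det_fin_two, S.det_eq]
  have hr' : r = q + 1 + p := by
    have := S.trace_of_four ((Subgroup.orderOf_coe (a' * c')).symm.trans hac)
    rw [map_mul, hA] at this
    simp [AM, Matrix.trace_fin_two, Matrix.mul_apply, Matrix.vecMul, dotProduct, Fin.sum_univ_two, ← hp, ← hq, ← hr, h11] at this
    linear_combination -this
  let τ : Fin 3 → ℂ := fun j => (S.σ (cj a' b' j * c')).trace
  have hsum : (1 - 2 * τ 0) ^ 2 + (1 - 2 * τ 1) ^ 2 + (1 - 2 * τ 2) ^ 2 = 11 := by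
    have t0 : τ 0 = -p + Complex.I * r + Complex.I * q := by
      simp [τ, cj, hB, Matrix.trace_fin_two, Matrix.mul_apply, Fin.sum_univ_two, ← hp, ← hq, ← hr,
        h11]
    have t1 : τ 1 = Complex.I * p - Complex.I * r + q + (-1 - Complex.I) * (-1 - p) := by
      simp [τ, cj, hA, hB, hAinv, AM, Matrix.trace_fin_two, Matrix.mul_apply, Fin.sum_univ_two,
        ← hp, ← hq, ← hr, h11]
      ring
    have t2 : τ 2 = -Complex.I * p - r - Complex.I * q + (Complex.I - 1) * (-1 - p) := by
      simp only [τ, cj, map_mul, Fin.val_two, hA2, hA2inv, hB, AM, Matrix.trace_fin_two,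
        Matrix.mul_apply, Fin.sum_univ_two]
      simp [← hp, ← hq, ← hr, h11]
      ring
    rw [t0, t1, t2, hr']
    rw [hr'] at hdet
    linear_combination (16 : ℂ) * hdet +
      (4 * ((2 * q + 1 + p) ^ 2 + (p - q) ^ 2 + (2 * p + q + 1) ^ 2)) * Complex.I_sq
  have hval : ∀ j, (orderOf (cj a b j * c) ≠ 10 ∧ (1 - 2 * τ j) ^ 2 = 1) ∨
      (orderOf (cj a b j * c) = 10 ∧ (1 - 2 * τ j) ^ 2 = 5) := fun j => by
    have hbj : orderOf (cj a b j) = 3 := by
      rw [← hb, ← MulEquiv.orderOf_eq (MulAut.conj (a ^ (j : ℕ))) b]; rfl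
    have hnc : cj a b j * c ≠ c * cj a b j := fun hcomm => by
      rcases F.eq_or_inv hbj hc hcomm with e | e
      · exact hne j e
      · have h6 : orderOf (a * b⁻¹) = 6 := (F.inv_switch ha hb).1 hab
        have e' : a * c = a ^ (j : ℕ) * (a * b⁻¹) * (a ^ (j : ℕ))⁻¹ := by rw [e, cj]; group
        rw [e', ← MulAut.conj_apply, MulEquiv.orderOf_eq, h6] at hac
        omega
    have ecoe : orderOf (cj a' b' j * c') = orderOf (cj a b j * c) := by
      rw [← Subgroup.orderOf_coe]; simp [cj, a', b', c']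
    rcases F.mul_cases hbj hc hnc with g | g | g
    · refine Or.inl ⟨by omega, ?_⟩
      simp only [τ, S.trace_of_four (ecoe.trans g)]; norm_num
    · refine Or.inl ⟨by omega, ?_⟩
      simp only [τ, S.trace_of_six (ecoe.trans g)]; norm_num
    · refine Or.inr ⟨g, ?_⟩
      have := S.trace_of_ten (ecoe.trans g)
      simp only [τ]
      linear_combination 4 * this
  have h3 : ∀ x : Fin 3, x = 0 ∨ x = 1 ∨ x = 2 := by decide
  rcases hval 0 with ⟨n0, e0⟩ | ⟨n0, e0⟩ <;> rcases hval 1 with ⟨n1, e1⟩ | ⟨n1, e1⟩ <;>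
    rcases hval 2 with ⟨n2, e2⟩ | ⟨n2, e2⟩ <;> rw [e0, e1, e2] at hsum <;> norm_num at hsum
  · refine ⟨0, n0, fun y hy => ?_⟩
    rcases h3 y with rfl | rfl | rfl <;> first | rfl | (exact absurd n1 hy) | (exact absurd n2 hy)
  · refine ⟨1, n1, fun y hy => ?_⟩
    rcases h3 y with rfl | rfl | rfl <;> first | rfl | (exact absurd n0 hy) | (exact absurd n2 hy)
  · refine ⟨2, n2, fun y hy => ?_⟩
    rcases h3 y with rfl | rfl | rfl <;> first | rfl | (exact absurd n0 hy) | (exact absurd n1 hy)

/-- A common neighbour of a pair with product of order ten lies in the subgroup it generates. -/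
theorem mem_closure_of_four_four {a b c : G} (ha : orderOf a = 3) (hb : orderOf b = 3)
    (hc : orderOf c = 3) (hbc : orderOf (b * c) = 10) (hab : orderOf (a * b) = 4)
    (hac : orderOf (a * c) = 4) : a ∈ Subgroup.closure {b, c} := by
  obtain ⟨R⟩ := F.rep2_triple ha hb hc hab hac
  obtain ⟨ψ, h1, h2⟩ := F.exists_equiv_ten hb hc hbc
  obtain ⟨x, y, hxy, hx3, hy3, hx1, hy1, hxa, hxb, hya, hyb⟩ := model_two
  have hle : Subgroup.closure {b, c} ≤ Subgroup.closure {a, b, c} :=
    Subgroup.closure_mono (by intro t ht; simp at ht ⊢; tauto)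
  let L : T5 → Subgroup.closure {a, b, c} := fun t => ⟨(ψ.symm t : G), hle (ψ.symm t).2⟩
  have hL : ∀ t, orderOf (L t) = orderOf t := fun t => by
    rw [← Subgroup.orderOf_coe]
    show orderOf ((ψ.symm t : Subgroup.closure {b, c}) : G) = _
    rw [Subgroup.orderOf_coe, MulEquiv.orderOf_eq]
  have hLm : ∀ s t, L (s * t) = L s * L t := fun s t => Subtype.ext (by simp [L, map_mul])
  let a' : Subgroup.closure {a, b, c} := ⟨a, Subgroup.subset_closure (by simp)⟩
  let b' : Subgroup.closure {a, b, c} := ⟨b, Subgroup.subset_closure (by simp)⟩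
  let c' : Subgroup.closure {a, b, c} := ⟨c, Subgroup.subset_closure (by simp)⟩
  have eA : L A5 = b' := Subtype.ext h1
  have eB : L B5 = c' := Subtype.ext h2
  have ha' : orderOf a' = 3 := (Subgroup.orderOf_coe a').symm.trans ha
  have tr4 : ∀ g, orderOf g = 4 → (R.σ g).trace = 0 := fun g hg => R.trace_of_four hg
  have hne : b' * c' ≠ c' * b' := fun e =>
    F.noncomm_of_order hb hc (Or.inr (Or.inr hbc)) (congrArg Subtype.val e)
  have h3x : orderOf x = 3 := orderOf_eq_prime hx3 hx1
  have h3y : orderOf y = 3 := orderOf_eq_prime hy3 hy1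
  have k1 : (R.σ (L x * b')).trace = (R.σ (a' * b')).trace := by
    rw [← eA, ← hLm, tr4 _ ((hL _).trans hxa), eA, tr4 _ ((Subgroup.orderOf_coe _).symm.trans hab)]
  have k2 : (R.σ (L x * c')).trace = (R.σ (a' * c')).trace := by
    rw [← eB, ← hLm, tr4 _ ((hL _).trans hxb), eB, tr4 _ ((Subgroup.orderOf_coe _).symm.trans hac)]
  have k3 : (R.σ (L y * b')).trace = (R.σ (a' * b')).trace := by
    rw [← eA, ← hLm, tr4 _ ((hL _).trans hya), eA, tr4 _ ((Subgroup.orderOf_coe _).symm.trans hab)]
  have k4 : (R.σ (L y * c')).trace = (R.σ (a' * c')).trace := by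
    rw [← eB, ← hLm, tr4 _ ((hL _).trans hyb), eB, tr4 _ ((Subgroup.orderOf_coe _).symm.trans hac)]
  rcases R.eq_or_eq_of_traces ((Subgroup.orderOf_coe b').symm.trans hb)
    ((Subgroup.orderOf_coe c').symm.trans hc) hne ha' ((hL x).trans h3x) ((hL y).trans h3y)
    k1 k2 k3 k4 with h | h | h
  · exact (show a = (ψ.symm x : G) from congrArg Subtype.val h) ▸ (ψ.symm x).2
  · exact (show a = (ψ.symm y : G) from congrArg Subtype.val h) ▸ (ψ.symm y).2
  · refine absurd ?_ hxy
    exact ψ.symm.injective (Subtype.ext (congrArg (fun t : Subgroup.closure {a, b, c} => (t : G)) h))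

end FPFRep

end Cfsg.Agent.FGS4.Zass
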