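/-
The counting step: a strongly regular graph with parameters `(n, 3k, k+1, 4)` has `k ≤ 2`.
-/
import Mathlib.LinearAlgebra.Trace
import Mathlib.LinearAlgebra.Matrix.ToLin
import Mathlib.LinearAlgebra.FreeModule.PID
import Mathlib.Data.Real.Sqrt
import Mathlib.Tactic.Module

set_option autoImplicit false
set_option linter.style.haveILetI false

namespace Cfsg.Agent.FGS4.Zass

theorem exists_trace_eq_nat {ι : Type*} [Fintype ι] [DecidableEq ι] (E : Matrix ι ι ℝ)
    (hE : E * E = E) : ∃ f : ℕ, E.trace = f := by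
  have h2 : IsIdempotentElem (Matrix.toLin' E) := by
    show Matrix.toLin' E * Matrix.toLin' E = Matrix.toLin' E
    rw [Module.End.mul_eq_comp, ← Matrix.toLin'_mul, hE]
  refine ⟨Module.finrank ℝ (LinearMap.range (Matrix.toLin' E)), ?_⟩
  rw [← Matrix.trace_toLin'_eq]
  exact ((LinearMap.isProj_range_iff_isIdempotentElem _).mpr h2).trace

theorem srg_bound {ι : Type*} [Fintype ι] [DecidableEq ι] [Nonempty ι] (A : Matrix ι ι ℝ) (D l : ℕ)
    (hD3 : 3 ≤ D) (h3 : 3 * l = D + 3) (hdiag : ∀ i, A i i = 0)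
    (hrow : ∀ i, ∑ j, A i j = D) (hcol : ∀ j, ∑ i, A i j = D)
    (hA2 : ∀ i j, (A * A) i j = ((l : ℝ) - 4) * A i j + 4 + if i = j then (D : ℝ) - 4 else 0) :
    (D = 3 ∧ Fintype.card ι = 4) ∨ (D = 6 ∧ Fintype.card ι = 10) := by
  obtain ⟨k, rfl⟩ : ∃ k, l = k + 1 := ⟨l - 1, by omega⟩
  obtain rfl : D = 3 * k := by omega
  set n := Fintype.card ι with hn
  have hn0 : 0 < n := Fintype.card_pos
  push_cast at hA2 hrow hcol
  have hn4 : 4 * (n : ℝ) = 6 * k ^ 2 + 6 * k + 4 := by
    obtain ⟨i⟩ : Nonempty ι := inferInstance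
    have h1 : ∑ j, (A * A) i j = (3 * k) * (3 * k) := by
      simp only [Matrix.mul_apply]
      rw [Finset.sum_comm]
      simp only [← Finset.mul_sum, hrow, ← Finset.sum_mul]
    simp only [hA2, Finset.sum_add_distrib, ← Finset.mul_sum, hrow, Finset.sum_ite_eq,
      Finset.mem_univ, if_true, Finset.sum_const, Finset.card_univ, nsmul_eq_mul, ← hn] at h1
    linarith
  have hnk : 4 * n = 6 * k ^ 2 + 6 * k + 4 := by exact_mod_cast hn4
  have hk2 : k ≤ 2 := by
    by_contra hk
    have hk3 : 3 ≤ k := by omega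
    let J : Matrix ι ι ℝ := Matrix.of fun _ _ => 1
    have hJJ : J * J = (n : ℝ) • J := by
      ext i j; simp [J, Matrix.mul_apply, hn]
    have hAJ : A * J = (3 * k : ℝ) • J := by
      ext i j; simp [J, Matrix.mul_apply, hrow]
    have hJA : J * A = (3 * k : ℝ) • J := by
      ext i j; simp [J, Matrix.mul_apply, hcol]
    have hAA : A * A = ((k : ℝ) - 3) • A + (4 : ℝ) • J + ((3 * k : ℝ) - 4) • (1 : Matrix ι ι ℝ) := by
      ext i j
      rw [hA2]
      by_cases hij : i = j <;>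
        simp only [J, hij, Matrix.add_apply, Matrix.smul_apply, Matrix.one_apply, Matrix.of_apply,
          smul_eq_mul, if_true, if_false] <;> ring
    set P : Matrix ι ι ℝ := 1 - (1 / n : ℝ) • J with hP
    set Q : Matrix ι ι ℝ := (2 : ℝ) • A - ((k : ℝ) - 3) • 1 + (-(5 * k + 3) / n : ℝ) • J with hQ
    have hn' : (n : ℝ) ≠ 0 := Nat.cast_ne_zero.mpr hn0.ne'
    set d : ℝ := (k + 7) * (k - 1) with hd
    have hd0 : 0 < d := by
      have : (3 : ℝ) ≤ k := by exact_mod_cast hk3
      rw [hd]; nlinarith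
    have hQJ : Q * J = 0 := by
      rw [hQ, add_mul, sub_mul, smul_mul_assoc, smul_mul_assoc, smul_mul_assoc, one_mul, hAJ, hJJ,
        smul_smul, smul_smul, div_mul_cancel₀ _ hn']
      module
    have hJQ : J * Q = 0 := by
      rw [hQ, mul_add, mul_sub, mul_smul_comm, mul_smul_comm, mul_smul_comm, mul_one, hJA, hJJ,
        smul_smul, smul_smul, div_mul_cancel₀ _ hn']
      module
    have hQQ : Q * Q = d • P := by
      have e : Q * Q = Q * ((2 : ℝ) • A - ((k : ℝ) - 3) • 1) := by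
        nth_rewrite 2 [hQ]
        rw [mul_add, mul_smul_comm, hQJ, smul_zero, add_zero]
      rw [e, hQ, hP, mul_sub, mul_smul_comm, mul_smul_comm, mul_one, add_mul, sub_mul,
        smul_mul_assoc, smul_mul_assoc, smul_mul_assoc, one_mul, hAA, hJA, hd]
      match_scalars <;> field_simp <;> (try linear_combination (4 : ℝ) * hn4) <;> ring
    have hQP : Q * P = Q := by rw [hP, mul_sub, mul_one, mul_smul_comm, hQJ, smul_zero, sub_zero]
    have hPQ : P * Q = Q := by rw [hP, sub_mul, one_mul, smul_mul_assoc, hJQ, smul_zero, sub_zero]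
    have hPP : P * P = P := by
      rw [hP, mul_sub, mul_one, mul_smul_comm, sub_mul, one_mul, smul_mul_assoc, hJJ, smul_smul,
        div_mul_cancel₀ _ hn', one_smul, sub_self, smul_zero, sub_zero]
    set s := Real.sqrt d with hs
    have hs0 : s ≠ 0 := (Real.sqrt_pos.mpr hd0).ne'
    have hss : s * s = d := Real.mul_self_sqrt hd0.le
    obtain ⟨f, hf⟩ := exists_trace_eq_nat ((1 / (2 * s)) • Q + (1 / 2 : ℝ) • P) (by
      rw [add_mul, mul_add, mul_add, smul_mul_smul_comm, smul_mul_smul_comm, smul_mul_smul_comm,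
        smul_mul_smul_comm, hQQ, hQP, hPQ, hPP, ← hss]
      match_scalars <;> field_simp <;> ring)
    have htQ : Q.trace = -((k : ℝ) - 3) * n - (5 * k + 3) := by
      rw [hQ]
      simp [Matrix.trace, J, hdiag, ← hn, Finset.sum_add_distrib, Finset.sum_sub_distrib]
      field_simp
      ring
    have htP : P.trace = (n : ℝ) - 1 := by
      rw [hP]
      simp [Matrix.trace, J, ← hn, Finset.sum_sub_distrib]
      field_simp
    rw [Matrix.trace_add, Matrix.trace_smul, Matrix.trace_smul, htQ, htP, smul_eq_mul, smul_eq_mul] at hf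
    have hkey : ((2 * f : ℝ) - n + 1) * s = -((k : ℝ) - 3) * n - (5 * k + 3) := by
      field_simp at hf ⊢
      linear_combination -hf
    have hsq : ((2 * f : ℤ) - n + 1) ^ 2 * ((k + 7) * (k - 1)) =
        (-((k : ℤ) - 3) * n - (5 * k + 3)) ^ 2 := by
      have : ((2 * f : ℝ) - n + 1) ^ 2 * ((k + 7) * (k - 1)) =
          (-((k : ℝ) - 3) * n - (5 * k + 3)) ^ 2 := by
        rw [← hkey, mul_pow, sq s, hss]
      exact_mod_cast this
    have hm : (2 * f : ℤ) - n + 1 ≠ 0 := fun h0 => by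
      rw [h0] at hsq
      have h1 : -((k : ℤ) - 3) * n - (5 * k + 3) = 0 := by simpa using hsq.symm
      have : (3 : ℤ) ≤ k := by exact_mod_cast hk3
      nlinarith
    have hdvd : ((2 * f : ℤ) - n + 1) ∣ (-((k : ℤ) - 3) * n - (5 * k + 3)) :=
      (Int.pow_dvd_pow_iff two_ne_zero).mp ⟨_, hsq.symm⟩
    obtain ⟨t, ht⟩ := hdvd
    rw [ht, mul_pow] at hsq
    have hsquare : ((k : ℤ) + 7) * (k - 1) = t ^ 2 := mul_left_cancel₀ (pow_ne_zero 2 hm) hsq
    have hk3' : (3 : ℤ) ≤ k := by exact_mod_cast hk3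
    obtain ⟨u, hu, hu2⟩ : ∃ u : ℤ, 0 ≤ u ∧ ((k : ℤ) + 3) ^ 2 = u ^ 2 + 16 :=
      ⟨|t|, abs_nonneg t, by rw [sq_abs]; linear_combination hsquare⟩
    have hu3 : u ≤ k + 2 := by nlinarith
    have hk5 : k ≤ 5 := by
      have : (k : ℤ) ≤ 5 := by nlinarith
      exact_mod_cast this
    have hu7 : u ≤ 7 := by
      have : (k : ℤ) ≤ 5 := by exact_mod_cast hk5
      linarith
    interval_cases k <;> interval_cases u <;> norm_num at hu2
  interval_cases k
  · omega
  · exact Or.inl ⟨rfl, by omega⟩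
  · exact Or.inr ⟨rfl, by omega⟩

end Cfsg.Agent.FGS4.Zass
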