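/-
The graph on the subgroups of order three of a group with a fixed-point-free representation.
-/
import Cfsg.Agent.FGS4.Zass.Pairs
import Cfsg.Agent.FGS4.Zass.Srg
import Mathlib.Data.Set.Card

set_option autoImplicit false
set_option linter.style.haveILetI false

namespace Cfsg.Agent.FGS4.Zass

open scoped Matrix

theorem key_ext {g : T5} {k : K5} (h : key g = k) {h' : T5} (h2 : key h' = k) : g = h' :=
  key_injective (h.trans h2.symm)

/-- The element with given entries. -/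
def mkT (k : K5) (hk : kdet k = 1) : T5 :=
  ⟨ofKey k, by
    obtain ⟨a, b, c, d⟩ := k
    rw [Matrix.det_fin_two]; simpa [ofKey, kdet] using hk⟩

theorem key_mkT (k : K5) (hk : kdet k = 1) : key (mkT k hk) = k := by
  obtain ⟨a, b, c, d⟩ := k
  simp [mkT, key, ofKey]

theorem key_inv (g : T5) : key g⁻¹ = ((key g).2.2.2, -(key g).2.1, -(key g).2.2.1, (key g).1) := by
  simp [key, Matrix.SpecialLinearGroup.coe_inv, Matrix.adjugate_fin_two]

/-- The four common neighbours. -/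
def fourKeys : List K5 := [(4, 3, 3, 0), (2, 3, 1, 2), (2, 4, 2, 2), (4, 2, 2, 0)]

/-- Representatives of the ten subgroups of order three. -/
def repKeys : List K5 :=
  [(0, 4, 1, 4), (4, 4, 1, 0), (1, 2, 1, 3), (1, 4, 3, 3), (3, 2, 1, 1), (3, 4, 3, 1), (4, 3, 3, 0),
    (2, 3, 1, 2), (2, 4, 2, 2), (4, 2, 2, 0)]

theorem fourKeys_spec :
    ∀ e ∈ table, (kmul (kmul e.1 e.1) e.1 = (1, 0, 0, 1) ∧ e.1 ≠ (1, 0, 0, 1) ∧
      kmul (kmul kA e.1) (kmul kA e.1) = (4, 0, 0, 4) ∧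
      (kmul (kmul kB e.1) (kmul kB e.1) = (4, 0, 0, 4) ∨
        kmul (kmul (kmul kB e.1) (kmul kB e.1)) (kmul kB e.1) = (4, 0, 0, 4) ∧
          kmul (kmul kB e.1) (kmul kB e.1) ≠ (1, 0, 0, 1))) ↔ e.1 ∈ fourKeys := by
  decide +kernel

theorem ncard_four : {w : T5 | orderOf w = 3 ∧ orderOf (A5 * w) = 4 ∧
    (orderOf (B5 * w) = 4 ∨ orderOf (B5 * w) = 6)}.ncard = 4 := by
  classical
  have hset : {w : T5 | orderOf w = 3 ∧ orderOf (A5 * w) = 4 ∧
      (orderOf (B5 * w) = 4 ∨ orderOf (B5 * w) = 6)} = {w : T5 | key w ∈ fourKeys} := by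
    ext w
    obtain ⟨e, he, hek⟩ := exists_entry w
    have hs := fourKeys_spec e he
    rw [hek] at hs
    simp only [← key_B5, ← key_A5, ← key_mul] at hs
    show _ ↔ key w ∈ fourKeys
    rw [← hs]
    constructor
    · rintro ⟨h3, h4, h5⟩
      refine ⟨?_, fun h1 => ?_, key_mul (A5 * w) (A5 * w) ▸ key_sq_of_four h4, ?_⟩
      · have := pow_orderOf_eq_one w
        rw [h3, pow_succ, pow_two] at this
        rw [this, key_one]
      · rw [key_injective (h1.trans key_one.symm), orderOf_one] at h3; omega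
      · rcases h5 with h5 | h5
        · exact Or.inl (key_mul (B5 * w) (B5 * w) ▸ key_sq_of_four h5)
        · refine Or.inr ⟨?_, fun h1 => ?_⟩
          · have := key_cube_of_six h5
            rwa [← key_mul, ← key_mul] at this
          · have h2 : (B5 * w) ^ 2 = 1 := key_injective (by rw [pow_two, h1, key_one])
            have := Nat.le_of_dvd (by norm_num) (orderOf_dvd_of_pow_eq_one h2)
            omega
    · rintro ⟨h3, h1, h4, h5⟩
      refine ⟨orderOf_three_of_key (by rw [← key_mul, ← key_mul]; exact h3) h1,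
        orderOf_four_of_key (by rw [← key_mul]; exact h4), ?_⟩
      rcases h5 with h5 | ⟨h5, h6⟩
      · exact Or.inl (orderOf_four_of_key (by rw [← key_mul]; exact h5))
      · exact Or.inr (orderOf_six_of_key (by rw [← key_mul, ← key_mul]; exact h5)
          (by rw [← key_mul]; exact h6))
  rw [hset]
  have himg : key '' {w : T5 | key w ∈ fourKeys} = {k | k ∈ fourKeys} := by
    ext k
    refine ⟨?_, fun hk => ?_⟩
    · rintro ⟨w, hw, rfl⟩; exact hw
    · have hd : ∀ k ∈ fourKeys, kdet k = 1 := by decide +kernel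
      exact ⟨mkT k (hd k hk), (by show key _ ∈ fourKeys; rw [key_mkT]; exact hk), key_mkT _ _⟩
  rw [← Set.ncard_image_of_injective _ key_injective, himg,
    show {k | k ∈ fourKeys} = (fourKeys.toFinset : Set K5) by ext; simp, Set.ncard_coe_finset]
  decide +kernel

variable {G V : Type*} [Group G] [Finite G] [AddCommGroup V] [Module ℂ V] [FiniteDimensional ℂ V]
  [Nontrivial V]

/-- The subgroups of order three. -/
abbrev Pt (G : Type*) [Group G] := {A : Subgroup G // Nat.card A = 3}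

/-- Oriented neighbours. -/
def Nb {G : Type*} [Group G] (a : G) : Set G := {b | orderOf b = 3 ∧ orderOf (a * b) = 4}

/-- Adjacency. -/
def Adj {G : Type*} [Group G] (A B : Pt G) : Prop :=
  ∃ a b : G, Subgroup.zpowers a = A.1 ∧ Subgroup.zpowers b = B.1 ∧ orderOf a = 3 ∧ orderOf b = 3 ∧
    orderOf (a * b) = 4

/-- The point of an element of order three. -/
def pt {G : Type*} [Group G] (a : G) (ha : orderOf a = 3) : Pt G :=
  ⟨Subgroup.zpowers a, by rw [Nat.card_zpowers, ha]⟩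

theorem exists_gen {G : Type*} [Group G] (A : Pt G) :
    ∃ a, orderOf a = 3 ∧ Subgroup.zpowers a = A.1 := by
  haveI : Fact (Nat.Prime 3) := ⟨Nat.prime_three⟩
  haveI : Finite A.1 := Nat.finite_of_card_ne_zero (by rw [A.2]; norm_num)
  haveI : Nontrivial A.1 := Finite.one_lt_card_iff_nontrivial.mp (by rw [A.2]; norm_num)
  obtain ⟨⟨a, ha⟩, ha1⟩ := exists_ne (1 : A.1)
  have h3 : orderOf a = 3 := by
    rcases (Nat.dvd_prime Nat.prime_three).mp (A.2 ▸ Subgroup.orderOf_dvd_natCard A.1 ha) with h | h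
    · exact absurd (Subtype.ext (orderOf_eq_one_iff.mp h) : (⟨a, ha⟩ : A.1) = 1) ha1
    · exact h
  exact ⟨a, h3, Subgroup.eq_of_le_of_card_ge (Subgroup.zpowers_le.mpr ha)
    (by rw [A.2, Nat.card_zpowers, h3])⟩

namespace FPFRep

theorem cj_cj {a x : G} (ha : orderOf a = 3) (i j : Fin 3) : cj a (cj a x i) j = cj a x (i + j) := by
  have h : a ^ (j : ℕ) * a ^ (i : ℕ) = a ^ ((i + j : Fin 3) : ℕ) := by
    rw [← pow_add, ← pow_mod_orderOf a ((j : ℕ) + i), ha, Fin.val_add, Nat.add_comm]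
  rw [cj, cj, cj, ← h]; group

theorem cj_zero (a x : G) : cj a x 0 = x := by simp [cj]

theorem orderOf_cj (a x : G) (j : Fin 3) : orderOf (cj a x j) = orderOf x :=
  MulEquiv.orderOf_eq (MulAut.conj (a ^ (j : ℕ))) x

theorem orderOf_cj_mul (a x y : G) (j : Fin 3) :
    orderOf (cj a x j * cj a y j) = orderOf (x * y) := by
  rw [← orderOf_cj a (x * y) j]; congr 1; simp [cj]

theorem cj_mem_Nb {a x : G} (hx : x ∈ Nb a) (j : Fin 3) : cj a x j ∈ Nb a := by
  refine ⟨(orderOf_cj a x j).trans hx.1, ?_⟩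
  rw [← hx.2, ← orderOf_cj a (a * x) j]
  congr 1
  rw [cj, cj]
  calc a * (a ^ (j : ℕ) * x * (a ^ (j : ℕ))⁻¹) = (a * a ^ (j : ℕ)) * x * (a ^ (j : ℕ))⁻¹ := by group
    _ = (a ^ (j : ℕ) * a) * x * (a ^ (j : ℕ))⁻¹ := by rw [← pow_succ', pow_succ]
    _ = _ := by group

variable (F : FPFRep G V)
include F

theorem eq_or_inv_of_zpowers {a b : G} (ha : orderOf a = 3) (hb : orderOf b = 3)
    (h : Subgroup.zpowers b = Subgroup.zpowers a) : b = a ∨ b = a⁻¹ := by
  obtain ⟨k, hk⟩ : b ∈ Subgroup.zpowers a := h ▸ Subgroup.mem_zpowers b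
  refine F.eq_or_inv ha hb ?_
  rw [← hk]; exact ((Commute.refl a).zpow_right k).eq

theorem adj_irrefl (A : Pt G) : ¬ Adj A A := by
  rintro ⟨a, b, h1, h2, ha, hb, h⟩
  apply F.noncomm_of_order ha hb (Or.inl h)
  rcases F.eq_or_inv_of_zpowers ha hb (h2.trans h1.symm) with rfl | rfl <;> group

omit F in
theorem adj_symm {A B : Pt G} (h : Adj A B) : Adj B A := by
  obtain ⟨a, b, h1, h2, ha, hb, h⟩ := h
  exact ⟨b, a, h2, h1, hb, ha, by rw [orderOf_mul_swap, h]⟩

theorem adj_iff {a : G} (ha : orderOf a = 3) {A : Pt G} (hA : Subgroup.zpowers a = A.1) (B : Pt G) :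
    Adj A B ↔ ∃ b ∈ Nb a, Subgroup.zpowers b = B.1 := by
  constructor
  · rintro ⟨a', b, h1, h2, ha', hb, h⟩
    rcases F.eq_or_inv_of_zpowers ha ha' (h1.trans hA.symm) with e | e
    · exact ⟨b, ⟨hb, e ▸ h⟩, h2⟩
    · refine ⟨b⁻¹, ⟨inv_three hb, ?_⟩, (Subgroup.zpowers_inv (g := b)).trans h2⟩
      rw [e] at h
      rw [← orderOf_inv, mul_inv_rev, inv_inv, orderOf_mul_swap, h]
  · rintro ⟨b, ⟨hb, h⟩, h2⟩
    exact ⟨a, b, hA, h2, ha, hb, h⟩

theorem nb_inj {a b b' : G} (ha : orderOf a = 3) (hb : b ∈ Nb a) (hb' : b' ∈ Nb a)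
    (h : Subgroup.zpowers b' = Subgroup.zpowers b) : b' = b := by
  rcases F.eq_or_inv_of_zpowers hb.1 hb'.1 h with e | e
  · exact e
  · have h2 := hb'.2
    rw [e, (F.inv_switch ha hb.1).1 hb.2] at h2
    omega

theorem ncard_nbrs {a : G} (ha : orderOf a = 3) {A : Pt G} (hA : Subgroup.zpowers a = A.1) :
    {B : Pt G | Adj A B}.ncard = (Nb a).ncard := by
  rw [← Set.ncard_image_of_injective _ Subtype.val_injective]
  have : Subtype.val '' {B : Pt G | Adj A B} = Subgroup.zpowers '' Nb a := by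
    ext C
    constructor
    · rintro ⟨B, hB, rfl⟩
      exact (F.adj_iff ha hA B).mp hB
    · rintro ⟨b, hb, rfl⟩
      exact ⟨pt b hb.1, (F.adj_iff ha hA _).mpr ⟨b, hb, rfl⟩, rfl⟩
  rw [this, Set.ncard_image_of_injOn fun b hb b' hb' h => (F.nb_inj ha hb hb' h.symm).symm]

theorem exists_conj {a b : G} (ha : orderOf a = 3) (hb : orderOf b = 3) :
    ∃ g : G, g * a * g⁻¹ = b ∨ g * a * g⁻¹ = b⁻¹ := by
  by_cases hab : a * b = b * a
  · rcases F.eq_or_inv ha hb hab with rfl | rfl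
    · exact ⟨1, Or.inl (by simp)⟩
    · exact ⟨1, Or.inr (by simp)⟩
  have h4 : ∀ c : G, orderOf c = 3 → orderOf (a * c) = 4 → ∃ g : G, g * a * g⁻¹ = c⁻¹ := by
    intro c hc h
    obtain ⟨ψ, hψ, h1, h2⟩ := F.exists_hom_four ha hc h
    refine ⟨a * a * c, ?_⟩
    let a' : Subgroup.closure {a, c} := ⟨a, Subgroup.subset_closure (by simp)⟩
    let c' : Subgroup.closure {a, c} := ⟨c, Subgroup.subset_closure (by simp)⟩
    have e : a' * a' * c' * a' * (a' * a' * c')⁻¹ = c'⁻¹ := by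
      apply hψ
      simp only [map_mul, map_inv, h1 a' rfl, h2 c' rfl]
      apply key_injective
      simp only [key_mul, key_inv, key_A5, key_Y5]
      decide
    exact congrArg Subtype.val e
  rcases F.mul_cases ha hb hab with h | h | h
  · obtain ⟨g, hg⟩ := h4 b hb h
    exact ⟨g, Or.inr hg⟩
  · obtain ⟨g, hg⟩ := h4 b⁻¹ (inv_three hb) ((F.inv_switch ha hb).2.1 h)
    exact ⟨g, Or.inl (by rw [hg, inv_inv])⟩
  · obtain ⟨ψ, h1, h2⟩ := F.exists_equiv_ten ha hb h
    have e : A5 * B5 * A5 * B5 * A5 * (A5 * B5 * A5 * B5)⁻¹ = B5 := by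
      apply key_injective
      simp only [key_mul, key_inv, key_A5, key_B5]
      decide
    refine ⟨a * b * a * b, Or.inl ?_⟩
    have := congrArg (fun t => (ψ.symm t : G)) e
    simp only [map_mul, map_inv, Subgroup.coe_mul, Subgroup.coe_inv, h1, h2] at this
    exact this

theorem ncard_Nb_eq {a b : G} (ha : orderOf a = 3) (hb : orderOf b = 3) :
    (Nb b).ncard = (Nb a).ncard := by
  have hinv : ∀ x : G, (Nb x⁻¹).ncard = (Nb x).ncard := fun x => by
    rw [show Nb x⁻¹ = (fun y => y⁻¹) '' Nb x from ?_, Set.ncard_image_of_injective _ inv_injective]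
    ext y
    refine ⟨fun ⟨h1, h2⟩ => ⟨y⁻¹, ⟨inv_three h1, ?_⟩, inv_inv y⟩, ?_⟩
    · rw [← orderOf_inv, mul_inv_rev, inv_inv, orderOf_mul_swap, h2]
    · rintro ⟨t, ⟨h1, h2⟩, rfl⟩
      refine ⟨inv_three h1, ?_⟩
      rw [← orderOf_inv, mul_inv_rev, inv_inv, inv_inv, orderOf_mul_swap, h2]
  obtain ⟨g, hg⟩ := F.exists_conj ha hb
  have hcong : (Nb (g * a * g⁻¹)).ncard = (Nb a).ncard := by
    rw [show Nb (g * a * g⁻¹) = MulAut.conj g '' Nb a from ?_,
      Set.ncard_image_of_injective _ (MulEquiv.injective _)]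
    ext y
    refine ⟨fun ⟨h1, h2⟩ => ⟨(MulAut.conj g).symm y, ⟨?_, ?_⟩, MulEquiv.apply_symm_apply _ y⟩, ?_⟩
    · rw [MulEquiv.orderOf_eq, h1]
    · rw [← MulEquiv.orderOf_eq (MulAut.conj g), map_mul, MulEquiv.apply_symm_apply, MulAut.conj_apply, h2]
    · rintro ⟨t, ⟨h1, h2⟩, rfl⟩
      refine ⟨(MulEquiv.orderOf_eq _ t).trans h1, ?_⟩
      rw [← h2, ← MulEquiv.orderOf_eq (MulAut.conj g) (a * t), map_mul, MulAut.conj_apply, MulAut.conj_apply]
  rcases hg with e | e
  · rw [← e, hcong]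
  · rw [← hinv b, ← e, hcong]

theorem adj_gen_iff {b c : G} (hb : orderOf b = 3) (hc : orderOf c = 3) :
    Adj (pt b hb) (pt c hc) ↔ orderOf (b * c) = 4 ∨ orderOf (b * c) = 6 := by
  rw [F.adj_iff hb rfl]
  constructor
  · rintro ⟨x, ⟨hx, h⟩, e⟩
    rcases F.eq_or_inv_of_zpowers hc hx e with rfl | rfl
    · exact Or.inl h
    · refine Or.inr ?_
      have := (F.inv_switch hb (inv_three hc)).1 h
      rwa [inv_inv] at this
  · rintro (h | h)
    · exact ⟨c, ⟨hc, h⟩, rfl⟩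
    · exact ⟨c⁻¹, ⟨inv_three hc, (F.inv_switch hb hc).2.1 h⟩, Subgroup.zpowers_inv (g := c)⟩

theorem not_adj_gen {b c : G} (hb : orderOf b = 3) (hc : orderOf c = 3) (hne : pt b hb ≠ pt c hc)
    (hn : ¬ Adj (pt b hb) (pt c hc)) : orderOf (b * c) = 10 := by
  have hnc : b * c ≠ c * b := fun h => hne (by
    rcases F.eq_or_inv hb hc h with rfl | rfl
    · rfl
    · exact Subtype.ext (Subgroup.zpowers_inv (g := b)).symm)
  rw [F.adj_gen_iff hb hc] at hn
  rcases F.mul_cases hb hc hnc with h | h | h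
  exacts [absurd (Or.inl h) hn, absurd (Or.inr h) hn, h]

theorem line_facts {a b : G} (ha : orderOf a = 3) (hb : b ∈ Nb a) :
    orderOf (b * cj a b 1) = 6 ∧ orderOf (b * cj a b 2) = 6 ∧
      cj a b 1 ≠ b ∧ cj a b 2 ≠ b ∧ cj a b 1 ≠ cj a b 2 := by
  obtain ⟨ψ, hψ, h1, h2⟩ := F.exists_hom_four ha hb.1 hb.2
  let a' : Subgroup.closure {a, b} := ⟨a, Subgroup.subset_closure (by simp)⟩
  let b' : Subgroup.closure {a, b} := ⟨b, Subgroup.subset_closure (by simp)⟩
  have h6 : ∀ j : Fin 3, j ≠ 0 → orderOf (b' * cj a' b' j) = 6 := fun j hj => by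
    rw [← orderOf_injective ψ hψ]
    have hcase : j = 1 ∨ j = 2 := by revert j; decide
    rcases hcase with rfl | rfl <;>
    · simp only [cj, map_mul, map_inv, map_pow, h1 a' rfl, h2 b' rfl, Fin.val_one, Fin.val_two,
        pow_one, pow_two]
      refine orderOf_six_of_key ?_ ?_ <;>
      · simp only [key_mul, key_inv, key_A5, key_Y5]
        decide
  have h61 : orderOf (b * cj a b 1) = 6 := (Subgroup.orderOf_coe _).trans (h6 1 (by decide))
  have h62 : orderOf (b * cj a b 2) = 6 := (Subgroup.orderOf_coe _).trans (h6 2 (by decide))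
  have hbb : orderOf (b * b) ≠ 6 := fun h => by
    have : (b * b) ^ 3 = 1 := by
      rw [← pow_two, ← pow_mul, mul_comm, pow_mul, ← hb.1, pow_orderOf_eq_one, one_pow]
    have := orderOf_dvd_of_pow_eq_one this
    rw [h] at this; omega
  refine ⟨h61, h62, fun e => hbb (by rw [← h61, e]), fun e => hbb (by rw [← h62, e]), fun e => hbb ?_⟩
  have e' := orderOf_cj_mul a b (cj a b 1) 1
  rw [cj_cj ha, show (1 : Fin 3) + 1 = 2 from rfl, ← e, h61] at e'
  have e'' := orderOf_cj_mul a b b 1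
  rw [e'] at e''
  exact e''.symm

theorem three_mul_common {a b : G} (ha : orderOf a = 3) (hb : b ∈ Nb a) :
    3 * {C : Pt G | Adj (pt a ha) C ∧ Adj (pt b hb.1) C}.ncard = (Nb a).ncard + 3 := by
  classical
  set L : Set G := {b, cj a b 1, cj a b 2} with hL
  obtain ⟨h61, h62, hne1, hne2, hne12⟩ := F.line_facts ha hb
  have hLN : L ⊆ Nb a := by
    rintro x (rfl | rfl | rfl)
    exacts [hb, cj_mem_Nb hb 1, cj_mem_Nb hb 2]
  have hLj : ∀ j, cj a b j ∈ L := fun j => by
    have hcase : j = 0 ∨ j = 1 ∨ j = 2 := by revert j; decide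
    rcases hcase with rfl | rfl | rfl <;> simp [hL, cj_zero]
  have hLcard : L.ncard = 3 := by
    rw [hL, Set.ncard_insert_of_notMem (by simp [hne1.symm, hne2.symm]), Set.ncard_pair hne12]
  set N' := Nb a \ L with hN'
  set M : Set G := {c | c ∈ Nb a ∧ (orderOf (b * c) = 4 ∨ orderOf (b * c) = 6)} with hM
  have hcommon : {C : Pt G | Adj (pt a ha) C ∧ Adj (pt b hb.1) C}.ncard = M.ncard := by
    rw [← Set.ncard_image_of_injective _ Subtype.val_injective]
    have : Subtype.val '' {C : Pt G | Adj (pt a ha) C ∧ Adj (pt b hb.1) C} = Subgroup.zpowers '' M := by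
      ext D
      constructor
      · rintro ⟨C, ⟨h1, h2⟩, rfl⟩
        obtain ⟨c, hc, hcC⟩ := (F.adj_iff ha rfl C).mp h1
        obtain rfl : C = pt c hc.1 := Subtype.ext hcC.symm
        exact ⟨c, ⟨hc, (F.adj_gen_iff hb.1 hc.1).mp h2⟩, rfl⟩
      · rintro ⟨c, ⟨hc, hc'⟩, rfl⟩
        exact ⟨pt c hc.1, ⟨(F.adj_iff ha rfl _).mpr ⟨c, hc, rfl⟩,
          (F.adj_gen_iff hb.1 hc.1).mpr hc'⟩, rfl⟩
    rw [this, Set.ncard_image_of_injOn fun c hc c' hc' h => (F.nb_inj ha hc.1 hc'.1 h.symm).symm]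
  have hML : M ∩ L = {cj a b 1, cj a b 2} := by
    ext x
    constructor
    · rintro ⟨⟨-, hx⟩, rfl | hx'⟩
      · exfalso
        have : (x * x) ^ 3 = 1 := by
          rw [← pow_two, ← pow_mul, mul_comm, pow_mul, ← hb.1, pow_orderOf_eq_one, one_pow]
        have := orderOf_dvd_of_pow_eq_one this
        rcases hx with hx | hx <;> rw [hx] at this <;> omega
      · exact hx'
    · rintro (rfl | rfl)
      exacts [⟨⟨cj_mem_Nb hb 1, Or.inr h61⟩, hLj 1⟩, ⟨⟨cj_mem_Nb hb 2, Or.inr h62⟩, hLj 2⟩]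
  have hoff : ∀ c ∈ N', ∀ j, cj a c j ∈ N' := fun c hc j => ⟨cj_mem_Nb hc.1 j, fun hl => hc.2 (by
    have hback : ∀ x : G, cj a (cj a x j) (-j) = x := fun x => by
      rw [cj_cj ha, add_neg_cancel, cj_zero]
    rw [← hback c]
    rcases hl with e | e | e <;> rw [e]
    · exact hLj _
    · rw [cj_cj ha]; exact hLj _
    · rw [cj_cj ha]; exact hLj _)⟩
  have huniq : ∀ c ∈ N', ∃! j, orderOf (cj a b j * c) ≠ 10 := fun c hc =>
    F.line_unique ha hb.1 hc.1.1 hb.2 hc.1.2 fun j e => hc.2 (e ▸ hLj j)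
  let f : ↥(M \ L) × Fin 3 → ↥N' := fun p => ⟨cj a p.1 p.2, hoff _ ⟨p.1.2.1.1, p.1.2.2⟩ _⟩
  have hadj : ∀ c ∈ M \ L, ∀ j, orderOf (cj a b j * cj a c j) ≠ 10 := fun c hc j => by
    rw [orderOf_cj_mul]
    rcases hc.1.2 with h | h <;> omega
  have hf : Function.Bijective f := by
    constructor
    · rintro ⟨⟨c, hc⟩, j⟩ ⟨⟨c', hc'⟩, j'⟩ h
      have h' : cj a c j = cj a c' j' := congrArg Subtype.val h
      obtain ⟨j₀, -, hu⟩ := huniq (cj a c j) (hoff _ ⟨hc.1.1, hc.2⟩ j)
      obtain rfl : j = j' := (hu j (hadj c hc j)).trans (hu j' (h' ▸ hadj c' hc' j')).symm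
      have h2 := congrArg (fun x => cj a x (-j)) h'
      simp only [cj_cj ha, add_neg_cancel, cj_zero] at h2
      subst h2; rfl
    · rintro ⟨d, hd⟩
      obtain ⟨j₀, hj₀, -⟩ := huniq d hd
      set c := cj a d (-j₀) with hc
      have hcN := hoff d hd (-j₀)
      rw [← hc] at hcN
      have hback : cj a c j₀ = d := by rw [hc, cj_cj ha, neg_add_cancel, cj_zero]
      have hne : orderOf (b * c) ≠ 10 := by rwa [← orderOf_cj_mul a b c j₀, hback]
      have hnc : b * c ≠ c * b := fun h => by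
        rcases F.eq_or_inv hb.1 hcN.1.1 h with e | e
        · exact hcN.2 (by rw [e]; simp [hL])
        · have h2 := hcN.1.2
          rw [e, (F.inv_switch ha hb.1).1 hb.2] at h2
          omega
      have hcM : c ∈ M := ⟨hcN.1, by
        rcases F.mul_cases hb.1 hcN.1.1 hnc with h | h | h
        exacts [Or.inl h, Or.inr h, absurd h hne]⟩
      exact ⟨(⟨c, hcM, hcN.2⟩, j₀), Subtype.ext hback⟩
  have hcount := Nat.card_eq_of_bijective f hf
  rw [Nat.card_prod, Nat.card_fin, Nat.card_coe_set_eq, Nat.card_coe_set_eq] at hcount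
  have hN1 := Set.ncard_sdiff_add_ncard_of_subset hLN (Set.toFinite _)
  have hM1 := Set.ncard_inter_add_ncard_sdiff_eq_ncard M L (Set.toFinite _)
  rw [hML, Set.ncard_pair hne12] at hM1
  rw [← hN', hLcard] at hN1
  rw [hcommon]
  omega

theorem common_nonadj {b c : G} (hb : orderOf b = 3) (hc : orderOf c = 3)
    (h : orderOf (b * c) = 10) :
    {A : Pt G | Adj (pt b hb) A ∧ Adj (pt c hc) A}.ncard = 4 := by
  set M : Set G := {x | x ∈ Nb b ∧ (orderOf (c * x) = 4 ∨ orderOf (c * x) = 6)} with hM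
  have hcommon : {A : Pt G | Adj (pt b hb) A ∧ Adj (pt c hc) A}.ncard = M.ncard := by
    rw [← Set.ncard_image_of_injective _ Subtype.val_injective]
    have : Subtype.val '' {A : Pt G | Adj (pt b hb) A ∧ Adj (pt c hc) A} = Subgroup.zpowers '' M := by
      ext D
      constructor
      · rintro ⟨A, ⟨h1, h2⟩, rfl⟩
        obtain ⟨x, hx, hxA⟩ := (F.adj_iff hb rfl A).mp h1
        obtain rfl : A = pt x hx.1 := Subtype.ext hxA.symm
        exact ⟨x, ⟨hx, (F.adj_gen_iff hc hx.1).mp h2⟩, rfl⟩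
      · rintro ⟨x, ⟨hx, hx'⟩, rfl⟩
        exact ⟨pt x hx.1, ⟨(F.adj_iff hb rfl _).mpr ⟨x, hx, rfl⟩,
          (F.adj_gen_iff hc hx.1).mpr hx'⟩, rfl⟩
    rw [this, Set.ncard_image_of_injOn fun x hx x' hx' e => (F.nb_inj hb hx.1 hx'.1 e.symm).symm]
  obtain ⟨ψ, h1, h2⟩ := F.exists_equiv_ten hb hc h
  let φ : T5 → G := fun t => (ψ.symm t : G)
  have hφ : Function.Injective φ := fun s t e => ψ.symm.injective (Subtype.ext e)
  have hord : ∀ t, orderOf (φ t) = orderOf t := fun t => by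
    simp only [φ]; rw [Subgroup.orderOf_coe, MulEquiv.orderOf_eq]
  have hmul : ∀ s t, φ (s * t) = φ s * φ t := fun s t => by simp [φ]
  have hMimg : M = φ '' {w : T5 | orderOf w = 3 ∧ orderOf (A5 * w) = 4 ∧
      (orderOf (B5 * w) = 4 ∨ orderOf (B5 * w) = 6)} := by
    ext x
    constructor
    · rintro ⟨⟨hx3, hbx⟩, hcx⟩
      have hxb : orderOf (x * b) = 4 := by rw [orderOf_mul_swap, hbx]
      have hmem : x ∈ Subgroup.closure {b, c} := by
        rcases hcx with hcx | hcx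
        · exact F.mem_closure_of_four_four hx3 hb hc h hxb (by rw [orderOf_mul_swap, hcx])
        · have h' := F.mem_closure_of_four_four hx3 hb (inv_three hc) ((F.inv_switch hb hc).2.2 h)
            hxb ((F.inv_switch hx3 hc).2.1 (by rw [orderOf_mul_swap, hcx]))
          refine (Subgroup.closure_le _).mpr ?_ h'
          rintro t (rfl | rfl)
          exacts [Subgroup.subset_closure (by simp), inv_mem (Subgroup.subset_closure (by simp))]
      have hx : φ (ψ ⟨x, hmem⟩) = x := by simp [φ]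
      refine ⟨ψ ⟨x, hmem⟩, ⟨?_, ?_, ?_⟩, hx⟩
      · rw [← hord, hx, hx3]
      · rw [← hord, hmul, hx, show φ A5 = b from h1, hbx]
      · rw [← hord (B5 * _), hmul, hx, show φ B5 = c from h2]; exact hcx
    · rintro ⟨w, ⟨w3, wA, wB⟩, rfl⟩
      refine ⟨⟨(hord w).trans w3, ?_⟩, ?_⟩
      · rw [← show φ A5 = b from h1, ← hmul, hord, wA]
      · rw [← show φ B5 = c from h2, ← hmul, hord]; exact wB
  rw [hcommon, hMimg, Set.ncard_image_of_injective _ hφ, ncard_four]

/-- Subgroups generated by the elements of order three. -/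
theorem order_three_trichotomy :
    (∀ a b : G, orderOf a = 3 → orderOf b = 3 → a * b = b * a) ∨
    (∃ a b : G, orderOf a = 3 ∧ orderOf b = 3 ∧ orderOf (a * b) = 4 ∧ Nat.card (Pt G) = 4 ∧
      ∀ c : G, orderOf c = 3 → c ∈ Subgroup.closure {a, b}) ∨
    (∃ a b : G, orderOf a = 3 ∧ orderOf b = 3 ∧ orderOf (a * b) = 10 ∧
      ∀ c : G, orderOf c = 3 → c ∈ Subgroup.closure {a, b}) := by
  classical
  by_cases hall : ∀ a b : G, orderOf a = 3 → orderOf b = 3 → a * b = b * a
  · exact Or.inl hall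
  right
  push Not at hall
  obtain ⟨a₀, b₀, ha₀, hb₀, hab₀⟩ := hall
  -- an adjacent pair
  obtain ⟨a, b, ha, hb⟩ : ∃ a b : G, orderOf a = 3 ∧ b ∈ Nb a := by
    rcases F.mul_cases ha₀ hb₀ hab₀ with h | h | h
    · exact ⟨a₀, b₀, ha₀, hb₀, h⟩
    · exact ⟨a₀, b₀⁻¹, ha₀, inv_three hb₀, (F.inv_switch ha₀ hb₀).2.1 h⟩
    · obtain ⟨ψ, h1, h2⟩ := F.exists_equiv_ten ha₀ hb₀ h
      refine ⟨(ψ.symm A5 : G), (ψ.symm Y5 : G), ?_, ?_, ?_⟩
      · rw [h1, ha₀]
      · rw [Subgroup.orderOf_coe, MulEquiv.orderOf_eq, orderOf_Y5]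
      · rw [← Subgroup.coe_mul, ← map_mul, Subgroup.orderOf_coe, MulEquiv.orderOf_eq, orderOf_A5Y5]
  haveI : Finite (Subgroup G) := Finite.of_injective _ SetLike.coe_injective
  haveI : Fintype (Pt G) := Fintype.ofFinite _
  haveI : Nonempty (Pt G) := ⟨pt a ha⟩
  let Am : Matrix (Pt G) (Pt G) ℝ := Matrix.of fun A B => if Adj A B then 1 else 0
  set D := (Nb a).ncard with hD
  set l := {C : Pt G | Adj (pt a ha) C ∧ Adj (pt b hb.1) C}.ncard with hl
  have h3l : 3 * l = D + 3 := F.three_mul_common ha hb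
  obtain ⟨-, -, hne1, hne2, hne12⟩ := F.line_facts ha hb
  have hD3 : 3 ≤ D := by
    rw [hD, ← show ({b, cj a b 1, cj a b 2} : Set G).ncard = 3 by
      rw [Set.ncard_insert_of_notMem (by simp [hne1.symm, hne2.symm]), Set.ncard_pair hne12]]
    refine Set.ncard_le_ncard ?_ (Set.toFinite _)
    rintro x (rfl | rfl | rfl)
    exacts [hb, cj_mem_Nb hb 1, cj_mem_Nb hb 2]
  have hdeg : ∀ A : Pt G, {B : Pt G | Adj A B}.ncard = D := fun A => by
    obtain ⟨x, hx, hxA⟩ := exists_gen A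
    rw [F.ncard_nbrs hx hxA, F.ncard_Nb_eq ha hx]
  have hcomm : ∀ A B : Pt G, {C : Pt G | Adj A C ∧ Adj B C}.ncard =
      if A = B then D else if Adj A B then l else 4 := fun A B => by
    obtain ⟨x, hx, hxA⟩ := exists_gen A
    obtain rfl : A = pt x hx := Subtype.ext hxA.symm
    obtain ⟨y, hy, hyB⟩ := exists_gen B
    obtain rfl : B = pt y hy := Subtype.ext hyB.symm
    split_ifs with h1 h2
    · rw [← h1]; simp only [and_self]; exact hdeg _
    · obtain ⟨y', hy', e⟩ := (F.adj_iff hx rfl _).mp h2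
      have hpt : pt y hy = pt y' hy'.1 := Subtype.ext e.symm
      have h3 := F.three_mul_common hx hy'
      rw [F.ncard_Nb_eq ha hx, ← h3l] at h3
      rw [hpt]; omega
    · exact F.common_nonadj hx hy (F.not_adj_gen hx hy h1 h2)
  have hsum : ∀ P : Pt G → Prop, ∀ [DecidablePred P],
      (∑ C, if P C then (1 : ℝ) else 0) = ({C | P C}.ncard : ℕ) := fun P _ => by
    rw [Finset.sum_boole, Set.ncard_eq_toFinset_card']
    simp
  obtain ⟨hD', hn⟩ | ⟨hD', hn⟩ := srg_bound Am D l hD3 h3l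
    (fun A => by simp only [Am, Matrix.of_apply]; rw [if_neg (F.adj_irrefl A)])
    (fun A => by simp only [Am, Matrix.of_apply]; rw [hsum, hdeg])
    (fun B => by
      simp only [Am, Matrix.of_apply]; rw [hsum, ← hdeg B]
      exact congrArg (fun s : Set (Pt G) => (s.ncard : ℝ))
        (Set.ext fun A => ⟨adj_symm, adj_symm⟩))
    (fun A B => by
      have e : (Am * Am) A B = ({C : Pt G | Adj A C ∧ Adj B C}.ncard : ℕ) := by
        rw [← hsum, Matrix.mul_apply]
        refine Finset.sum_congr rfl fun C _ => ?_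
        simp only [Am, Matrix.of_apply]
        by_cases h1 : Adj A C <;> by_cases h2 : Adj B C <;>
          simp [h1, h2, show Adj C B ↔ Adj B C from ⟨adj_symm, adj_symm⟩]
      rw [e, hcomm]
      simp only [Am, Matrix.of_apply]
      split_ifs with h1 h2
      · exact absurd (h1 ▸ h2 : Adj A A) (F.adj_irrefl A)
      all_goals push_cast <;> ring)
  · -- four subgroups
    refine Or.inl ⟨a, b, ha, hb.1, hb.2, by rw [Nat.card_eq_fintype_card, hn], fun c hc => ?_⟩
    have huniv : ({pt a ha} ∪ {B : Pt G | Adj (pt a ha) B} : Set (Pt G)) = Set.univ := by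
      refine Set.eq_of_subset_of_ncard_le (Set.subset_univ _) ?_ (Set.toFinite _)
      rw [Set.ncard_univ, Nat.card_eq_fintype_card, hn,
        Set.ncard_union_eq (by simp [F.adj_irrefl]), Set.ncard_singleton, hdeg, hD']
    have hmem : pt c hc ∈ ({pt a ha} ∪ {B : Pt G | Adj (pt a ha) B} : Set (Pt G)) :=
      huniv ▸ Set.mem_univ _
    have hNb : Nb a = {b, cj a b 1, cj a b 2} := by
      refine (Set.eq_of_subset_of_ncard_le ?_ ?_ (Set.toFinite _)).symm
      · rintro x (rfl | rfl | rfl)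
        exacts [hb, cj_mem_Nb hb 1, cj_mem_Nb hb 2]
      · rw [Set.ncard_insert_of_notMem (by simp [hne1.symm, hne2.symm]), Set.ncard_pair hne12,
          ← hD, hD']
    have hacl : a ∈ Subgroup.closure {a, b} := Subgroup.subset_closure (by simp)
    have hbcl : b ∈ Subgroup.closure {a, b} := Subgroup.subset_closure (by simp)
    rcases hmem with h | h
    · have h1 : Subgroup.zpowers c = Subgroup.zpowers a :=
        congrArg Subtype.val (Set.mem_singleton_iff.mp h)
      rcases F.eq_or_inv_of_zpowers ha hc h1 with rfl | rfl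
      exacts [hacl, inv_mem hacl]
    · obtain ⟨x, hx, hxc⟩ := (F.adj_iff ha rfl _).mp h
      have hxm : x ∈ Subgroup.closure {a, b} := by
        rw [hNb] at hx
        rcases hx with rfl | rfl | rfl
        · exact hbcl
        all_goals exact mul_mem (mul_mem (pow_mem hacl _) hbcl) (inv_mem (pow_mem hacl _))
      exact Subgroup.zpowers_le.mpr hxm (hxc.symm ▸ Subgroup.mem_zpowers c)
  · -- ten subgroups
    obtain ⟨B, hBne, hB⟩ : ∃ B : Pt G, pt a ha ≠ B ∧ ¬ Adj (pt a ha) B := by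
      by_contra hcon
      push Not at hcon
      have hsub : (Set.univ : Set (Pt G)) ⊆ {pt a ha} ∪ {B : Pt G | Adj (pt a ha) B} := fun B _ => by
        rcases eq_or_ne (pt a ha) B with h | h
        exacts [Or.inl h.symm, Or.inr (hcon B h)]
      have := (Set.ncard_le_ncard hsub (Set.toFinite _)).trans (Set.ncard_union_le _ _)
      rw [Set.ncard_univ, Nat.card_eq_fintype_card, hn, Set.ncard_singleton, hdeg, hD'] at this
      omega
    obtain ⟨c, hc, hcB⟩ := exists_gen B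
    obtain rfl : B = pt c hc := Subtype.ext hcB.symm
    have h10 := F.not_adj_gen ha hc hBne hB
    refine Or.inr ⟨a, c, ha, hc, h10, fun x hx => ?_⟩
    obtain ⟨ψ, -, -⟩ := F.exists_equiv_ten ha hc h10
    have hk : ∀ i : Fin 10, kdet (repKeys.getD i (1, 0, 0, 1)) = 1 ∧
        kmul (kmul (repKeys.getD i (1, 0, 0, 1)) (repKeys.getD i (1, 0, 0, 1)))
          (repKeys.getD i (1, 0, 0, 1)) = (1, 0, 0, 1) ∧
        repKeys.getD i (1, 0, 0, 1) ≠ (1, 0, 0, 1) := by decide
    have hsep : ∀ i j : Fin 10, repKeys.getD i (1, 0, 0, 1) = repKeys.getD j (1, 0, 0, 1) ∨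
        repKeys.getD i (1, 0, 0, 1) = ((repKeys.getD j (1, 0, 0, 1)).2.2.2,
          -(repKeys.getD j (1, 0, 0, 1)).2.1, -(repKeys.getD j (1, 0, 0, 1)).2.2.1,
          (repKeys.getD j (1, 0, 0, 1)).1) → i = j := by decide +kernel
    let w : Fin 10 → T5 := fun i => mkT _ (hk i).1
    have hw : ∀ i, key (w i) = repKeys.getD i (1, 0, 0, 1) := fun i => key_mkT _ _
    have hw3 : ∀ i, orderOf ((ψ.symm (w i)) : G) = 3 := fun i => by
      rw [Subgroup.orderOf_coe, MulEquiv.orderOf_eq]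
      exact orderOf_three_of_key (by rw [hw]; exact (hk i).2.1) (by rw [hw]; exact (hk i).2.2)
    let P : Fin 10 → Pt G := fun i => pt _ (hw3 i)
    have hP : Function.Injective P := fun i j e => by
      rcases F.eq_or_inv_of_zpowers (hw3 j) (hw3 i) (congrArg Subtype.val e) with e' | e'
      · have : w i = w j := ψ.symm.injective (Subtype.ext e')
        exact hsep i j (Or.inl (by rw [← hw, ← hw, this]))
      · have : w i = (w j)⁻¹ := ψ.symm.injective (Subtype.ext (by rw [e', map_inv]; rfl))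
        exact hsep i j (Or.inr (by rw [← hw, ← hw, this, key_inv]))
    obtain ⟨i, hi⟩ := ((Fintype.bijective_iff_injective_and_card P).mpr
      ⟨hP, by rw [Fintype.card_fin, hn]⟩).2 (pt x hx)
    have hz : Subgroup.zpowers ((ψ.symm (w i)) : G) = Subgroup.zpowers x := congrArg Subtype.val hi
    exact Subgroup.zpowers_le.mpr (ψ.symm (w i)).2 (hz ▸ Subgroup.mem_zpowers x)

end FPFRep

end Cfsg.Agent.FGS4.Zass
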