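/-
Structure of Frobenius complements: Zassenhaus.
-/
import Cfsg.Agent.FGS4.Zass.Graph
import Cfsg.Agent.FGS4.FPFModule
import Cfsg.Agent.OddLocal.UniqueSubgroup
import Cfsg.Agent.S0106
import Mathlib.GroupTheory.SpecificGroups.ZGroup
import Mathlib.GroupTheory.Solvable
import Mathlib.NumberTheory.Multiplicity

set_option autoImplicit false
set_option linter.style.haveILetI false

namespace Cfsg.Agent.FGS4.Zass

open scoped Matrix

/-- `G` occurs as a Frobenius complement. -/
abbrev IsFC (G : Type*) [Group G] : Prop :=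
  ∃ (L : Type) (_ : Group L) (_ : Finite L) (H : Subgroup L),
    Cfsg.IsFrobeniusComplement H ∧ Nonempty (G ≃* H)

theorem exists_fpfRep {G : Type*} [Group G] [Finite G] (hFC : IsFC G) :
    ∃ m : ℕ, 0 < m ∧ Nonempty (FPFRep G (Fin m → ℂ)) := by
  obtain ⟨L, _, _, H, hF, ⟨e⟩⟩ := hFC
  obtain ⟨m, τ, hm, hτ⟩ := FPFMod.exists_int_rep hF e
  refine ⟨m, hm, ⟨{
    ρ := (Matrix.toLinAlgEquiv' : Matrix (Fin m) (Fin m) ℂ ≃ₐ[ℂ] _).toMulEquiv.toMonoidHom.comp
      (((Int.castRingHom ℂ).mapMatrix (m := Fin m)).toMonoidHom.comp τ)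
    fpf := fun c hc v hv => ?_ }⟩⟩
  have h' := hτ.map ((Int.castRingHom ℂ).mapMatrix (m := Fin m))
  refine h'.fixed_eq_zero hc (Ne.isUnit (Nat.cast_ne_zero.mpr (orderOf_pos c).ne')) ?_
  exact hv

theorem hom_eq_one_of_perfect {G A : Type*} [Group G] [CommGroup A] (hp : commutator G = ⊤)
    (f : G →* A) (g : G) : f g = 1 :=
  Abelianization.commutator_subset_ker f (hp ▸ Subgroup.mem_top g)

theorem subsingleton_of_perfect_solvable {G : Type*} [Group G] [Group.IsSolvable G]
    (hp : commutator G = ⊤) : Subsingleton G := by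
  rcases subsingleton_or_nontrivial G with h | h
  · exact h
  · exact absurd hp (Group.IsSolvable.commutator_lt_top_of_nontrivial G).ne

namespace FPFRep

variable {G V : Type*} [Group G] [Finite G] [AddCommGroup V] [Module ℂ V] [FiniteDimensional ℂ V]
  [Nontrivial V]

/-- Restriction to a subgroup. -/
def res (F : FPFRep G V) (H : Subgroup G) : FPFRep H V where
  ρ := F.ρ.comp H.subtype
  fpf c hc := F.fpf (c : G) fun h => hc (Subtype.ext h)

variable (F : FPFRep G V)
include F

theorem mem_zpowers_of_comm {p : ℕ} [hp : Fact p.Prime] {a b : G} (ha : orderOf a = p)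
    (hb : orderOf b = p) (hab : a * b = b * a) : b ∈ Subgroup.zpowers a := by
  obtain ⟨l, hl⟩ := Module.End.exists_eigenvalue (F.ρ a)
  let E := Module.End.eigenspace (F.ρ a) l
  have hEb : ∀ x ∈ E, F.ρ b x ∈ E := fun x hx => by
    rw [Module.End.mem_eigenspace_iff] at hx ⊢
    rw [← apply_mul, hab, apply_mul, hx, map_smul]
  haveI : Nontrivial E := Submodule.nontrivial_iff_ne_bot.mpr hl
  obtain ⟨m, hm⟩ := Module.End.exists_eigenvalue ((F.ρ b).restrict hEb)
  obtain ⟨v, hv, hv0⟩ := Module.End.HasEigenvalue.exists_hasEigenvector hm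
  rw [Module.End.mem_eigenspace_iff] at hv
  have hbv : F.ρ b (v : V) = m • (v : V) := congrArg Subtype.val hv
  have hav : F.ρ a (v : V) = l • (v : V) := Module.End.mem_eigenspace_iff.mp v.2
  have hv0' : (v : V) ≠ 0 := fun h => hv0 (Subtype.ext h)
  have hpw : ∀ (x : G) (r : ℂ), F.ρ x (v : V) = r • (v : V) → ∀ i : ℕ,
      F.ρ (x ^ i) (v : V) = r ^ i • (v : V) := by
    intro x r hr i
    induction i with
    | zero => simp
    | succ i ih => rw [pow_succ, apply_mul, hr, map_smul, ih, smul_smul, ← pow_succ']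
  have hroot : ∀ (x : G) (r : ℂ), orderOf x = p → F.ρ x (v : V) = r • (v : V) → r ^ p = 1 := by
    intro x r hx hr
    have h1 := hpw x r hr p
    have h2 : F.ρ (x ^ p) (v : V) = (1 : ℂ) • (v : V) := by
      rw [← hx, pow_orderOf_eq_one, map_one, one_smul]; rfl
    exact (smul_left_injective ℂ hv0' (h1.symm.trans h2))
  have hl1 : l ≠ 1 := by
    intro h
    rw [h, one_smul] at hav
    rw [F.eq_one hv0' hav, orderOf_one] at ha
    exact hp.out.ne_one ha.symm
  have hlp : IsPrimitiveRoot l p := by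
    rw [← orderOf_eq_prime (hroot a l ha hav) hl1]; exact IsPrimitiveRoot.orderOf l
  haveI : NeZero p := ⟨hp.out.ne_zero⟩
  obtain ⟨i, -, hi⟩ := hlp.eq_pow_of_pow_eq_one (hroot b m hb hbv)
  rw [F.eq_of_apply hv0' (show F.ρ b (v : V) = F.ρ (a ^ i) (v : V) by rw [hbv, hpw a l hav, hi])]
  exact Subgroup.npow_mem_zpowers a i

theorem eq_of_orderOf_two {s t : G} (hs : orderOf s = 2) (ht : orderOf t = 2) : s = t := by
  obtain ⟨v, hv⟩ := exists_ne (0 : V)
  have h : ∀ x : G, orderOf x = 2 → F.ρ x v = -v := fun x hx => by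
    have hne : x ≠ 1 := fun h => by rw [h, orderOf_one] at hx; omega
    refine eq_neg_of_add_eq_zero_left (F.fpf x hne _ ?_)
    rw [map_add, ← apply_mul, ← pow_two, ← hx, pow_orderOf_eq_one, map_one, add_comm]
    rfl
  exact F.eq_of_apply hv ((h s hs).trans (h t ht).symm)

theorem sylow_cases {p : ℕ} [hp : Fact p.Prime] (P : Sylow p G) :
    IsCyclic P ∨ (p = 2 ∧ ∃ n : ℕ, Nonempty (P ≃* QuaternionGroup (2 ^ n))) := by
  refine OddLocal.isCyclic_or_quaternion P.2 ?_
  intro a b ha hb ha1
  by_cases hb1 : b = 1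
  · rw [hb1]; exact one_mem _
  haveI : Nontrivial P := ⟨⟨a, 1, ha1⟩⟩
  haveI := P.2.center_nontrivial
  have hd : p ∣ Nat.card (Subgroup.center P) :=
    ((P.2.to_subgroup _).card_eq_or_dvd).resolve_left Finite.one_lt_card.ne'
  obtain ⟨z, hz⟩ := exists_prime_orderOf_dvd_card' p hd
  have hmem : ∀ x : P, x ^ p = 1 → x ≠ 1 → Subgroup.zpowers x = Subgroup.zpowers (z : P) := by
    intro x hx hx1
    have hxo : orderOf (x : G) = p := (Subgroup.orderOf_coe x).trans (orderOf_eq_prime hx hx1)
    have hzo : orderOf ((z : P) : G) = p := by rw [Subgroup.orderOf_coe, Subgroup.orderOf_coe, hz]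
    have hc : ((z : P) : G) * (x : G) = (x : G) * ((z : P) : G) :=
      congrArg Subtype.val (Subgroup.mem_center_iff.mp z.2 x).symm
    obtain ⟨i, hi⟩ := F.mem_zpowers_of_comm hzo hxo hc
    refine Subgroup.eq_of_le_of_card_ge (Subgroup.zpowers_le.mpr ⟨i, Subtype.ext (by simpa using hi)⟩) ?_
    rw [Nat.card_zpowers, Nat.card_zpowers, orderOf_eq_prime hx hx1, Subgroup.orderOf_coe, hz]
  rw [hmem a ha ha1, ← hmem b hb hb1]
  exact Subgroup.mem_zpowers b

theorem isZGroup_of_not_dvd (h : ¬ 2 ∣ Nat.card G) : IsZGroup G := by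
  refine ⟨fun p hp P => ?_⟩
  haveI := Fact.mk hp
  rcases F.sylow_cases P with h' | ⟨rfl, -⟩
  · exact h'
  · haveI : Subsingleton P := by
      rw [← Finite.card_le_one_iff_subsingleton, P.card_eq_multiplicity,
        Nat.factorization_eq_zero_of_not_dvd h, pow_zero]
    infer_instance

/-- A perfect complement has noncommuting elements of order three. -/
theorem exists_noncomm_of_perfect [Nontrivial G] (hperf : commutator G = ⊤) :
    ∃ a b : G, orderOf a = 3 ∧ orderOf b = 3 ∧ a * b ≠ b * a := by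
  classical
  haveI : Fact (Nat.Prime 2) := ⟨Nat.prime_two⟩
  haveI : Fact (Nat.Prime 3) := ⟨Nat.prime_three⟩
  have hnsol : ¬ Group.IsSolvable G := fun h =>
    not_subsingleton G (haveI := h; subsingleton_of_perfect_solvable hperf)
  have h2 : 2 ∣ Nat.card G := by
    by_contra h
    exact hnsol (haveI := F.isZGroup_of_not_dvd h; inferInstance)
  obtain ⟨P⟩ : Nonempty (Sylow 2 G) := inferInstance
  have hno : ¬ Cfsg.HasNormalPComplement 2 G := by
    rintro ⟨Q, N, hN, hc⟩
    have hq : IsPGroup 2 (G ⧸ N) := IsPGroup.of_card (n := (Nat.card G).factorization 2) (by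
      rw [← Q.card_eq_multiplicity, ← hc.symm.index_eq_card, Subgroup.index])
    haveI : Group.IsSolvable (G ⧸ N) := by haveI := hq.isNilpotent; infer_instance
    have hperf' : commutator (G ⧸ N) = ⊤ := by
      rw [commutator_def, ← Subgroup.map_top_of_surjective _ (QuotientGroup.mk'_surjective N),
        ← Subgroup.map_commutator, ← commutator_def, hperf]
    have hs := subsingleton_of_perfect_solvable hperf'
    have h1 : Nat.card Q = 1 := by
      rw [← hc.symm.index_eq_card, Subgroup.index]; exact Nat.card_unique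
    exact Q.ne_bot_of_dvd_card h2 (Subgroup.card_eq_one.mp h1)
  obtain ⟨n, hn, e⟩ : ∃ n, 1 ≤ n ∧ Nonempty (P ≃* QuaternionGroup (2 ^ n)) := by
    rcases F.sylow_cases P with hcyc | ⟨-, n, ⟨e⟩⟩
    · exfalso
      apply hno
      have hmin : 2 = (Nat.card G).minFac := ((Nat.minFac_eq_two_iff _).mpr h2).symm
      exact ⟨P, _, inferInstance, IsCyclic.isComplement' hmin.symm hcyc⟩
    · rcases Nat.eq_zero_or_pos n with rfl | hn
      · exfalso
        apply hno
        haveI : IsCyclic (QuaternionGroup (2 ^ 0)) :=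
          isCyclic_of_orderOf_eq_card (QuaternionGroup.xa 0) (by
            rw [QuaternionGroup.orderOf_xa, Nat.card_eq_fintype_card, QuaternionGroup.card, pow_zero,
              mul_one])
        have hmin : 2 = (Nat.card G).minFac := ((Nat.minFac_eq_two_iff _).mpr h2).symm
        exact ⟨P, _, inferInstance,
          IsCyclic.isComplement' hmin.symm (isCyclic_of_surjective e.symm.toMonoidHom e.symm.surjective)⟩
      · exact ⟨n, hn, ⟨e⟩⟩
  obtain ⟨H, K, hK, ⟨ψ⟩⟩ := (Cfsg.Agent.S0106.result P n hn e).resolve_left hno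
  have h3 : 3 ∣ Nat.card G := by
    let u : Matrix.SpecialLinearGroup (Fin 2) (ZMod 3) := ⟨!![1, 1; 0, 1], by simp [Matrix.det_fin_two]⟩
    have hu : orderOf u = 3 := by
      refine orderOf_eq_prime ?_ ?_
      · refine Subtype.ext ?_
        rw [Matrix.SpecialLinearGroup.coe_pow]
        ext i j
        fin_cases i <;> fin_cases j <;>
          simp [u, pow_succ, Matrix.mul_apply, Fin.sum_univ_two] <;> rfl
      · intro h
        have := congrArg (fun g : Matrix.SpecialLinearGroup (Fin 2) (ZMod 3) => g.1 0 1) h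
        simp [u] at this
    have h31 : 3 ∣ Nat.card (H ⧸ K.subgroupOf H) := by
      rw [Nat.card_congr ψ.toEquiv]; exact hu.symm.dvd.trans (orderOf_dvd_natCard u)
    exact (h31.trans (Subgroup.card_quotient_dvd_card _)).trans (Subgroup.card_subgroup_dvd_card H)
  obtain ⟨a, ha⟩ := exists_prime_orderOf_dvd_card' (G := G) 3 h3
  by_contra hcon
  push Not at hcon
  -- the subgroup of order three is central
  have hconj : ∀ g : G, g * a * g⁻¹ = a ∨ g * a * g⁻¹ = a⁻¹ := fun g => by
    have hg : orderOf (g * a * g⁻¹) = 3 := by rw [← MulAut.conj_apply, MulEquiv.orderOf_eq, ha]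
    exact F.eq_or_inv ha hg (hcon a _ ha hg)
  have hcen : ∀ g : G, g * a = a * g := by
    let f : G →* ℤˣ :=
      { toFun := fun g => if g * a * g⁻¹ = a then 1 else -1
        map_one' := by simp
        map_mul' := fun g h => by
          have e : g * h * a * (g * h)⁻¹ = g * (h * a * h⁻¹) * g⁻¹ := by group
          have hne : a⁻¹ ≠ a := fun h' => by
            have h2 : a ^ 2 = 1 := by
              rw [pow_two]
              conv_lhs => arg 1; rw [← h']
              exact inv_mul_cancel a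
            have := Nat.le_of_dvd (by norm_num) (orderOf_dvd_of_pow_eq_one h2)
            omega
          rw [e]
          rcases hconj h with hh | hh <;> rcases hconj g with hg | hg <;> rw [hh]
          · simp [hg]
          · simp [hg]
          · have e2 : g * a⁻¹ * g⁻¹ = a⁻¹ := by rw [← conj_inv, hg]
            simp [hg, e2, hne]
          · have e2 : g * a⁻¹ * g⁻¹ = a := by rw [← conj_inv, hg, inv_inv]
            simp [hg, e2, hne] }
    intro g
    have h1 := hom_eq_one_of_perfect hperf f g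
    by_contra hne
    have : g * a * g⁻¹ ≠ a := fun h => hne (mul_inv_eq_iff_eq_mul.mp h)
    simp only [f, MonoidHom.coe_mk, OneHom.coe_mk, if_neg this] at h1
    exact absurd h1 (by decide)
  obtain ⟨T⟩ : Nonempty (Sylow 3 G) := inferInstance
  have hT : IsCyclic T := by
    rcases F.sylow_cases T with h | ⟨h, -⟩
    · exact h
    · omega
  -- `N(T)` centralizes `T`
  have haT : a ∈ (T : Subgroup G) := by
    obtain ⟨x, hx⟩ := exists_prime_orderOf_dvd_card' (G := T) 3 (T.dvd_card_of_dvd_card h3)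
    have hxo : orderOf (x : G) = 3 := (Subgroup.orderOf_coe x).trans hx
    exact (Subgroup.zpowers_le.mpr x.2) (F.mem_zpowers_of_comm hxo ha (hcon _ _ hxo ha))
  have hNC : Subgroup.normalizer (T : Set G) ≤ Subgroup.centralizer (T : Set G) := by
    obtain ⟨⟨t, ht⟩, htgen⟩ := IsCyclic.exists_generator (α := T)
    intro g hg
    have hgt : g * t * g⁻¹ ∈ (T : Subgroup G) := (Subgroup.mem_normalizer_iff.mp hg t).mp ht
    obtain ⟨r, hr⟩ := htgen ⟨_, hgt⟩
    have hr' : t ^ r = g * t * g⁻¹ := by simpa using congrArg Subtype.val hr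
    obtain ⟨m, hm⟩ := IsPGroup.iff_orderOf.mp T.2 ⟨t, ht⟩
    have hmG : orderOf t = 3 ^ m := by rw [← hm]; exact Subgroup.orderOf_coe (⟨t, ht⟩ : T)
    -- the exponent is one modulo three
    obtain ⟨k, hk⟩ := htgen ⟨a, haT⟩
    have hk' : t ^ k = a := by simpa using congrArg Subtype.val hk
    have hr3 : (3 : ℤ) ∣ r - 1 := by
      have e : t ^ (r * k) = t ^ k := by
        rw [zpow_mul, hr', conj_zpow, hk', hcen g, mul_inv_cancel_right]
      by_contra h3r
      have h1 : t ^ (k * (r - 1)) = 1 := by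
        rw [mul_sub, mul_one, zpow_sub, mul_comm, e, mul_inv_cancel]
      have hd := orderOf_dvd_iff_zpow_eq_one.mpr h1
      have hcop : IsCoprime ((orderOf t : ℕ) : ℤ) (r - 1) := by
        rw [hmG, Nat.cast_pow]
        exact ((Prime.coprime_iff_not_dvd (by norm_num : Prime (3 : ℤ))).mpr h3r).pow_left
      have h2 : t ^ k = 1 := orderOf_dvd_iff_zpow_eq_one.mp (hcop.dvd_of_dvd_mul_right hd)
      rw [hk'] at h2
      rw [h2, orderOf_one] at ha
      omega
    -- powers of `g`
    have hiter : ∀ i : ℕ, g ^ i * t * (g ^ i)⁻¹ = t ^ (r ^ i) := by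
      intro i
      induction i with
      | zero => simp
      | succ i ih =>
        rw [pow_succ' r i, zpow_mul, hr', conj_zpow, ← ih, pow_succ']; group
    have hpow : g ^ (3 ^ m) * t * (g ^ (3 ^ m))⁻¹ = t := by
      have hd : (orderOf t : ℤ) ∣ r ^ (3 ^ m) - 1 := by
        have := dvd_sub_pow_of_dvd_sub (R := ℤ) (p := 3) (by simpa using hr3) m
        rw [one_pow] at this
        rw [hmG]; push_cast
        exact (pow_dvd_pow 3 (Nat.le_succ m)).trans (by simpa using this)
      rw [hiter]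
      conv_rhs => rw [← zpow_one t]
      rw [zpow_eq_zpow_iff_modEq]
      exact (Int.modEq_iff_dvd.mpr hd).symm
    -- coprime part
    obtain ⟨i, o, ho3, hgo⟩ : ∃ i o, ¬ 3 ∣ o ∧ orderOf g = 3 ^ i * o :=
      Nat.exists_eq_pow_mul_and_not_dvd (orderOf_pos g).ne' 3 (by norm_num)
    have hg3 : IsPGroup 3 (Subgroup.zpowers (g ^ o)) := IsPGroup.of_card (n := i) (by
      rw [Nat.card_zpowers, orderOf_pow, hgo, Nat.gcd_eq_right (dvd_mul_left o _),
        Nat.mul_div_cancel _ (Nat.pos_of_ne_zero fun h => ho3 (by rw [h]; exact dvd_zero 3))])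
    have hgoN : g ^ o ∈ Subgroup.normalizer (T : Set G) := pow_mem hg o
    have hgoT : g ^ o ∈ (T : Subgroup G) := by
      have hle : Subgroup.zpowers (g ^ o) ⊔ (T : Subgroup G) = T := T.is_maximal'
        (hg3.to_sup_of_normal_right' T.2 (Subgroup.zpowers_le.mpr hgoN)) le_sup_right
      exact hle ▸ Subgroup.mem_sup_left (Subgroup.mem_zpowers _)
    have hco : g ^ o * t = t * g ^ o := by
      obtain ⟨j, hj⟩ := htgen ⟨_, hgoT⟩
      have hj' : t ^ j = g ^ o := by simpa using congrArg Subtype.val hj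
      rw [← hj']; exact ((Commute.refl t).zpow_left j).eq
    have hgC : g ∈ Subgroup.centralizer ({t} : Set G) := by
      have h1 : g ^ (3 ^ m) ∈ Subgroup.centralizer ({t} : Set G) :=
        Subgroup.mem_centralizer_singleton_iff.mpr (mul_inv_eq_iff_eq_mul.mp hpow)
      have h2 : g ^ o ∈ Subgroup.centralizer ({t} : Set G) :=
        Subgroup.mem_centralizer_singleton_iff.mpr hco
      have hc : Nat.Coprime (3 ^ m) o := ((Nat.prime_three.coprime_iff_not_dvd).mpr ho3).pow_left m
      have h3' := Subgroup.mul_mem _ (zpow_mem h1 (Nat.gcdA (3 ^ m) o)) (zpow_mem h2 (Nat.gcdB (3 ^ m) o))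
      rwa [← zpow_natCast, ← zpow_natCast g o, ← zpow_mul, ← zpow_mul, ← zpow_add,
        ← Nat.gcd_eq_gcd_ab, hc, Nat.cast_one, zpow_one] at h3'
    rw [Subgroup.mem_centralizer_iff]
    intro y hy
    obtain ⟨j, hj⟩ := htgen ⟨y, hy⟩
    have hj' : t ^ j = y := by simpa using congrArg Subtype.val hj
    have hc : Commute g t := Subgroup.mem_centralizer_singleton_iff.mp hgC
    rw [← hj']; exact ((hc.zpow_right j).eq).symm
  haveI := hT
  have hker : (MonoidHom.transferSylow T hNC).ker = ⊤ := by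
    letI : CommGroup T := IsCyclic.commGroup
    exact top_le_iff.mp (hperf ▸ Abelianization.commutator_subset_ker _)
  have hnd := MonoidHom.not_dvd_card_ker_transferSylow T hNC
  rw [hker, Subgroup.card_top] at hnd
  exact hnd h3

end FPFRep

end Cfsg.Agent.FGS4.Zass
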