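/-
Zassenhaus: solvable and nonsolvable Frobenius complements.
-/
import Cfsg.Agent.FGS4.Zass.Structure
import Cfsg.Agent.FGS4.Swaps

set_option autoImplicit false
set_option linter.style.haveILetI false

namespace Cfsg.Agent.FGS4.Zass

open scoped Matrix

universe u

/-- Keys of the elements of order three. -/
def o3Keys : List K5 :=
  (table.map Prod.fst).filter fun k => (kmul (kmul k k) k == (1, 0, 0, 1)) && (k != (1, 0, 0, 1))

/-- Pairs of keys of generating pairs of order three. -/
def genPairs : List (K5 × K5) :=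
  (o3Keys.flatMap fun x => o3Keys.map fun y => (x, y)).filter fun p =>
    let g := kmul p.1 p.2
    kmul (kmul (kmul g g) (kmul g g)) g == (4, 0, 0, 4)

theorem genPairs_length : genPairs.length = 120 := by decide +kernel

theorem key_fifth_of_ten {g : T5} (hg : orderOf g = 10) :
    kmul (kmul (kmul (key g) (key g)) (kmul (key g) (key g))) (key g) = (4, 0, 0, 4) := by
  have h1 : ∀ e ∈ table, kmul e.1 e.1 = (1, 0, 0, 1) → e.1 = (1, 0, 0, 1) ∨ e.1 = (4, 0, 0, 4) := by
    decide +kernel
  set h := g * g * (g * g) * g with hh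
  have h5 : h = g ^ (2 + 2 + 1) := by rw [pow_succ, pow_add, pow_two]
  have hne : h ≠ 1 := fun h0 => by
    have := Nat.le_of_dvd (by norm_num) (orderOf_dvd_of_pow_eq_one (h5.symm.trans h0))
    omega
  obtain ⟨e, he, hek⟩ := exists_entry h
  have hsq : kmul e.1 e.1 = (1, 0, 0, 1) := by
    have h10 : g ^ 10 = 1 := hg ▸ pow_orderOf_eq_one g
    rw [hek, ← key_mul, h5, ← pow_add, ← key_one]
    exact congrArg key h10
  rcases h1 e he hsq with h' | h'
  · exact absurd (key_injective ((hek.symm.trans h').trans key_one.symm)) hne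
  · rw [← key_mul, ← key_mul, ← key_mul, ← hek, h']

theorem mem_o3Keys {g : T5} (hg : orderOf g = 3) : key g ∈ o3Keys := by
  rw [o3Keys, List.mem_filter]
  refine ⟨mem_keys _ (kdet_key g), ?_⟩
  simp only [Bool.and_eq_true, beq_iff_eq, bne_iff_ne, ne_eq]
  constructor
  · have h3 : g ^ 3 = 1 := hg ▸ pow_orderOf_eq_one g
    simp only [pow_succ, pow_zero, one_mul] at h3
    rw [← key_mul, ← key_mul, h3, key_one]
  · intro h
    rw [key_injective (h.trans key_one.symm), orderOf_one] at hg
    omega

theorem mem_genPairs {x y : T5} (hx : orderOf x = 3) (hy : orderOf y = 3)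
    (hxy : orderOf (x * y) = 10) : (key x, key y) ∈ genPairs := by
  rw [genPairs, List.mem_filter]
  refine ⟨List.mem_flatMap.mpr ⟨_, mem_o3Keys hx, List.mem_map.mpr ⟨_, mem_o3Keys hy, rfl⟩⟩, ?_⟩
  simp only [beq_iff_eq, ← key_mul x y]
  exact key_fifth_of_ten hxy

/-- `-1`. -/
def Z5c : T5 := mkT (4, 0, 0, 4) (by decide)

theorem orderOf_Z5c : orderOf Z5c = 2 := by
  refine orderOf_eq_prime (key_injective ?_) fun h => ?_
  · rw [pow_two, key_mul, Z5c, key_mkT, key_one]; decide
  · have := congrArg key h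
    rw [Z5c, key_mkT, key_one] at this
    revert this; decide

theorem eq_of_commute_gens {t : T5} (h1 : t * A5 = A5 * t) (h2 : t * B5 = B5 * t) :
    t = 1 ∨ t = Z5c := by
  have h : ∀ e ∈ table, kmul e.1 kA = kmul kA e.1 → kmul e.1 kB = kmul kB e.1 →
      e.1 = (1, 0, 0, 1) ∨ e.1 = (4, 0, 0, 4) := by decide +kernel
  obtain ⟨e, he, hek⟩ := exists_entry t
  rcases h e he (by rw [hek, ← key_A5, ← key_mul, ← key_mul, h1])
    (by rw [hek, ← key_B5, ← key_mul, ← key_mul, h2]) with h' | h'
  · exact Or.inl (key_injective ((hek.symm.trans h').trans key_one.symm))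
  · exact Or.inr (key_injective ((hek.symm.trans h').trans (key_mkT _ _).symm))

theorem card_T5 : Nat.card T5 = 120 := by
  rw [← Set.ncard_univ, ← Set.ncard_image_of_injective _ key_injective]
  have h : key '' Set.univ = ((table.map Prod.fst).toFinset : Set K5) := by
    ext k
    simp only [Set.image_univ, Set.mem_range, List.coe_toFinset, Set.mem_setOf_eq]
    refine ⟨?_, fun hk => ?_⟩
    · rintro ⟨g, rfl⟩; exact mem_keys _ (kdet_key g)
    · obtain ⟨e, he, rfl⟩ := List.mem_map.mp hk
      exact ⟨mkT _ (keys_det e he), key_mkT _ _⟩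
  rw [h, Set.ncard_coe_finset]
  decide +kernel

namespace FPFRep

variable {V : Type*} [AddCommGroup V] [Module ℂ V] [FiniteDimensional ℂ V] [Nontrivial V]

theorem isSolvable_of_comm_aux : ∀ (n : ℕ) {G : Type u} [Group G] [Finite G], Nat.card G = n →
    FPFRep G V → (∀ a b : G, orderOf a = 3 → orderOf b = 3 → a * b = b * a) →
      Group.IsSolvable G := by
  intro n
  induction n using Nat.strong_induction_on with
  | _ n ih =>
    intro G _ _ hn F hcomm
    rcases subsingleton_or_nontrivial G with h | h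
    · infer_instance
    have hne : commutator G ≠ ⊤ := fun hp => by
      obtain ⟨a, b, ha, hb, hab⟩ := F.exists_noncomm_of_perfect hp
      exact hab (hcomm a b ha hb)
    haveI : Group.IsSolvable (commutator G) := by
      refine ih _ ?_ rfl (F.res _) fun a b ha hb => Subtype.ext (hcomm a b ?_ ?_)
      · rw [← hn]
        exact lt_of_le_of_ne (Subgroup.card_le_card_group _)
          fun e => hne (Subgroup.eq_top_of_card_eq _ e)
      · rw [Subgroup.orderOf_coe, ha]
      · rw [Subgroup.orderOf_coe, hb]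
    exact Group.isSolvable_of_ker_le_range (commutator G).subtype (Abelianization.of (G := G))
      (by rw [Subgroup.range_subtype, Abelianization.ker_of])

theorem isSolvable_of_comm {G : Type u} [Group G] [Finite G] (F : FPFRep G V)
    (h : ∀ a b : G, orderOf a = 3 → orderOf b = 3 → a * b = b * a) : Group.IsSolvable G :=
  isSolvable_of_comm_aux _ rfl F h

variable {G : Type u} [Group G] [Finite G] (F : FPFRep G V)
include F

omit [FiniteDimensional ℂ V] [Nontrivial V] F in
/-- Conjugation on the subgroups of order three. -/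
def ptPerm : G →* Equiv.Perm (Pt G) where
  toFun g :=
    { toFun := fun A => ⟨A.1.map (MulAut.conj g).toMonoidHom,
        (Subgroup.card_map_of_injective (MulAut.conj g).injective).trans A.2⟩
      invFun := fun A => ⟨A.1.map (MulAut.conj g⁻¹).toMonoidHom,
        (Subgroup.card_map_of_injective (MulAut.conj g⁻¹).injective).trans A.2⟩
      left_inv := fun A => Subtype.ext (by
        simp only [Subgroup.map_map]
        convert Subgroup.map_id A.1
        ext x
        simp [mul_assoc])
      right_inv := fun A => Subtype.ext (by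
        simp only [Subgroup.map_map]
        convert Subgroup.map_id A.1
        ext x
        simp [mul_assoc]) }
  map_one' := Equiv.ext fun A => Subtype.ext (by
    show A.1.map _ = A.1
    convert Subgroup.map_id A.1
    ext x
    simp)
  map_mul' g h := Equiv.ext fun A => Subtype.ext (by
    show A.1.map _ = (A.1.map _).map _
    rw [Subgroup.map_map]
    congr 1
    ext x
    simp [mul_assoc])

theorem commute_of_fixed {x a : G} (hx : orderOf x = 3) (ha : orderOf a = 3)
    (h : (Subgroup.zpowers a).map (MulAut.conj x).toMonoidHom = Subgroup.zpowers a) :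
    x * a = a * x := by
  have hm : x * a * x⁻¹ ∈ Subgroup.zpowers a := by
    rw [← h]; exact ⟨a, Subgroup.mem_zpowers a, rfl⟩
  have ho : orderOf (x * a * x⁻¹) = 3 := by rw [← MulAut.conj_apply, MulEquiv.orderOf_eq, ha]
  obtain ⟨k, hk⟩ := hm
  have hc : a * (x * a * x⁻¹) = x * a * x⁻¹ * a := by
    rw [← hk]; exact ((Commute.refl a).zpow_right k).eq
  rcases F.eq_or_inv ha ho hc with e | e
  · exact mul_inv_eq_iff_eq_mul.mp e
  · exfalso
    have e2 : x * a⁻¹ * x⁻¹ = a := by rw [← conj_inv, e, inv_inv]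
    have h3 : x ^ 3 = 1 := hx ▸ pow_orderOf_eq_one x
    have : a = a⁻¹ := by
      calc a = x ^ 3 * a * (x ^ 3)⁻¹ := by rw [h3]; group
        _ = x * (x * (x * a * x⁻¹) * x⁻¹) * x⁻¹ := by
          simp only [pow_succ, pow_zero, one_mul]; group
        _ = a⁻¹ := by rw [e, e2, e]
    have h2 : a ^ 2 = 1 := by rw [pow_two]; nth_rewrite 2 [this]; exact mul_inv_cancel a
    have := Nat.le_of_dvd (by norm_num) (orderOf_dvd_of_pow_eq_one h2)
    omega

theorem isSolvable_of_four {a b : G} (ha : orderOf a = 3) (hb : orderOf b = 3)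
    (hab : orderOf (a * b) = 4) (h4 : Nat.card (Pt G) = 4) : Group.IsSolvable G := by
  haveI : Finite (Subgroup G) := Finite.of_injective _ SetLike.coe_injective
  haveI : Fintype (Pt G) := Fintype.ofFinite _
  haveI : Group.IsSolvable (Equiv.Perm (Pt G)) := isSolvable_perm_of_card_le_four
    (by rw [← Nat.card_eq_fintype_card, h4])
  haveI : Group.IsSolvable (ptPerm (G := G)).ker := by
    refine (F.res _).isSolvable_of_comm fun x y hx hy => ?_
    exfalso
    have hxk : ∀ c, orderOf c = 3 →
        (Subgroup.zpowers c).map (MulAut.conj (x : G)).toMonoidHom = Subgroup.zpowers c :=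
      fun c hc => congrArg Subtype.val (Equiv.congr_fun (MonoidHom.mem_ker.mp x.2) (pt c hc))
    have hx' : orderOf (x : G) = 3 := (Subgroup.orderOf_coe x).trans hx
    apply F.noncomm_of_order ha hb (Or.inl hab)
    rcases F.eq_or_inv hx' ha (F.commute_of_fixed hx' ha (hxk a ha)) with ea | ea <;>
      rcases F.eq_or_inv hx' hb (F.commute_of_fixed hx' hb (hxk b hb)) with eb | eb <;>
      rw [ea, eb] <;> group
  exact Group.isSolvable_of_ker_le_range (ptPerm (G := G)).ker.subtype (ptPerm (G := G))
    (by rw [Subgroup.range_subtype])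

theorem normal_closure_pair {a b : G} (ha : orderOf a = 3) (hb : orderOf b = 3)
    (hall : ∀ c : G, orderOf c = 3 → c ∈ Subgroup.closure {a, b}) :
    (Subgroup.closure {a, b}).Normal := by
  have hS : Subgroup.closure {a, b} = Subgroup.closure {c : G | orderOf c = 3} := by
    refine le_antisymm (Subgroup.closure_mono ?_) ((Subgroup.closure_le _).mpr hall)
    rintro x (rfl | rfl) <;> assumption
  rw [hS]
  refine Subgroup.Normal.mk fun n hn g => ?_
  induction hn using Subgroup.closure_induction with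
  | mem x hx =>
    refine Subgroup.subset_closure ?_
    show orderOf (g * x * g⁻¹) = 3
    rw [← MulAut.conj_apply, MulEquiv.orderOf_eq]; exact hx
  | one => simp
  | mul x y _ _ hx hy => simpa [mul_assoc] using mul_mem hx hy
  | inv x _ hx => simpa [mul_assoc] using inv_mem hx

theorem central_involution_mem {H : Subgroup G} (e : H ≃* T5) {t : G} (ht : orderOf t = 2) :
    t ∈ H := by
  have : orderOf ((e.symm Z5c : H) : G) = 2 := by
    rw [Subgroup.orderOf_coe, MulEquiv.orderOf_eq, orderOf_Z5c]
  exact F.eq_of_orderOf_two ht this ▸ (e.symm Z5c).2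

/-- The nonsolvable case. -/
theorem nonsolvable_structure (hns : ¬ Group.IsSolvable G) :
    ∃ S M : Subgroup G, S.Normal ∧ M.Normal ∧ Nonempty (S ≃* T5) ∧ S ⊓ M = ⊥ ∧
      (∀ s ∈ S, ∀ x ∈ M, s * x = x * s) ∧ (∀ c : G, orderOf c = 3 → c ∈ S) ∧
      (Nat.card M).Coprime 30 ∧ IsZGroup M ∧ (S ⊔ M).Normal ∧
      ((S ⊔ M).index = 1 ∨ (S ⊔ M).index = 2) := by
  classical
  rcases F.order_three_trichotomy with h | ⟨a, b, ha, hb, hab, h4, -⟩ | ⟨a, b, ha, hb, hab, hall⟩
  · exact absurd (F.isSolvable_of_comm h) hns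
  · exact absurd (F.isSolvable_of_four ha hb hab h4) hns
  set H := Subgroup.closure {a, b} with hH
  haveI hHn : H.Normal := F.normal_closure_pair ha hb hall
  obtain ⟨ψ, h1, h2⟩ := F.exists_equiv_ten ha hb hab
  let f : G →* MulAut H := MulAut.conjNormal
  set C := f.ker with hC
  haveI hCn : C.Normal := f.normal_ker
  have hCcomm : ∀ c ∈ C, ∀ s ∈ H, c * s = s * c := fun c hc s hs => by
    have := congrArg Subtype.val (MulEquiv.congr_fun (MonoidHom.mem_ker.mp hc) ⟨s, hs⟩)
    exact mul_inv_eq_iff_eq_mul.mp this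
  have hCH : ∀ c ∈ C, c ∈ H → c = 1 ∨ orderOf c = 2 := fun c hc hcH => by
    have hgen : ∀ t : T5, ψ ⟨c, hcH⟩ * t = t * ψ ⟨c, hcH⟩ := fun t => by
      apply ψ.symm.injective
      rw [map_mul, map_mul, MulEquiv.symm_apply_apply]
      exact Subtype.ext (hCcomm c hc _ (ψ.symm t).2)
    rcases eq_of_commute_gens (hgen A5) (hgen B5) with h | h
    · left
      exact congrArg Subtype.val (ψ.injective (h.trans (map_one ψ).symm))
    · right
      rw [← Subgroup.orderOf_mk c hcH, ← MulEquiv.orderOf_eq ψ, h, orderOf_Z5c]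
  have hno : ∀ p : ℕ, p = 3 ∨ p = 5 → ∀ c ∈ C, orderOf c ≠ p := by
    intro p hp c hc hco
    haveI : Fact p.Prime := ⟨by rcases hp with rfl | rfl <;> norm_num⟩
    have hmem : c ∈ H := by
      rcases hp with rfl | rfl
      · exact hall c hco
      · obtain ⟨t, ht⟩ := exists_prime_orderOf_dvd_card' (G := T5) 5 (by rw [card_T5]; norm_num)
        have hto : orderOf ((ψ.symm t : H) : G) = 5 := by
          rw [Subgroup.orderOf_coe, MulEquiv.orderOf_eq, ht]
        exact Subgroup.zpowers_le.mpr (ψ.symm t).2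
          (F.mem_zpowers_of_comm hto hco (hCcomm c hc _ (ψ.symm t).2).symm)
    rcases hCH c hc hmem with h | h
    · rw [h, orderOf_one] at hco; omega
    · omega
  have hno4 : ∀ c ∈ C, orderOf c ≠ 4 := fun c hc hco => by
    have hi : orderOf ((ψ.symm (A5 * Y5) : H) : G) = 4 := by
      rw [Subgroup.orderOf_coe, MulEquiv.orderOf_eq, orderOf_A5Y5]
    set i : G := ((ψ.symm (A5 * Y5) : H) : G) with hidef
    have hsq : ∀ x : G, orderOf x = 4 → orderOf (x ^ 2) = 2 := fun x hx => by
      rw [orderOf_pow' x two_ne_zero, hx]; norm_num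
    have e2 : c ^ 2 = i ^ 2 := F.eq_of_orderOf_two (hsq c hco) (hsq i hi)
    have hci : Commute c i := hCcomm c hc i (ψ.symm (A5 * Y5)).2
    have h1' : (c * i⁻¹) ^ 2 = 1 := by
      rw [hci.inv_right.mul_pow, inv_pow, e2, mul_inv_cancel]
    have hmem : c * i⁻¹ ∈ H := by
      by_cases h : c * i⁻¹ = 1
      · rw [h]; exact one_mem _
      · exact F.central_involution_mem ψ (orderOf_eq_prime h1' h)
    have hcH : c ∈ H := inv_mul_cancel_right c i ▸ mul_mem hmem (ψ.symm (A5 * Y5)).2
    rcases hCH c hc hcH with h | h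
    · rw [h, orderOf_one] at hco; omega
    · omega
  -- the odd part of the centralizer
  obtain ⟨P⟩ : Nonempty (Sylow 2 C) := inferInstance
  haveI : Fact (Nat.Prime 2) := ⟨Nat.prime_two⟩
  have hPinv : ∀ x : P, x ≠ 1 → orderOf ((x : C) : G) = 2 := fun x hx => by
    obtain ⟨k, hk⟩ := IsPGroup.iff_orderOf.mp P.2 x
    have hxo : orderOf ((x : C) : G) = 2 ^ k := by rw [Subgroup.orderOf_coe, Subgroup.orderOf_coe, hk]
    rcases k with _ | _ | k
    · rw [pow_zero] at hk
      exact absurd (orderOf_eq_one_iff.mp hk) hx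
    · simpa using hxo
    · exfalso
      refine hno4 (((x : C) : G) ^ (2 ^ k)) (pow_mem (x : C).2 _) ?_
      rw [orderOf_pow' _ (pow_ne_zero _ two_ne_zero), hxo,
        Nat.gcd_eq_right (pow_dvd_pow 2 (by omega)), Nat.pow_div (by omega) two_pos,
        show k + 1 + 1 - k = 2 by omega]
      norm_num
  have hPH : ∀ x : P, ((x : C) : G) ∈ H := fun x => by
    by_cases hx : x = 1
    · simp [hx]
    · exact F.central_involution_mem ψ (hPinv x hx)
  have hPle : Nat.card P ≤ 2 := by
    have hsub : Set.range (fun x : P => ((x : C) : G)) ⊆ {1, ((ψ.symm Z5c : H) : G)} := by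
      rintro _ ⟨x, rfl⟩
      by_cases hx : x = 1
      · simp [hx]
      · exact Or.inr (F.eq_of_orderOf_two (hPinv x hx)
          (by rw [Subgroup.orderOf_coe, MulEquiv.orderOf_eq, orderOf_Z5c]))
    have hinj : Function.Injective (fun x : P => ((x : C) : G)) :=
      fun x y h => Subtype.ext (Subtype.ext h)
    rw [← Set.ncard_univ, ← Set.ncard_image_of_injective _ hinj, Set.image_univ]
    exact (Set.ncard_le_ncard hsub (Set.toFinite _)).trans ((Set.ncard_insert_le _ _).trans (by rw [Set.ncard_singleton]))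
  obtain ⟨N, hNn, hNc⟩ : ∃ N : Subgroup C, N.Normal ∧ N.IsComplement' (P : Subgroup C) := by
    by_cases h2 : 2 ∣ Nat.card C
    · have hcyc : IsCyclic P := by
        haveI : Fact (Nat.Prime 2) := ⟨Nat.prime_two⟩
        have hdvd := P.dvd_card_of_dvd_card h2
        exact isCyclic_of_prime_card (p := 2) (le_antisymm hPle (Nat.le_of_dvd Nat.card_pos hdvd))
      exact ⟨_, inferInstance,
        IsCyclic.isComplement' (((Nat.minFac_eq_two_iff _).mpr h2)) hcyc⟩
    · refine ⟨⊤, inferInstance, ?_⟩
      have hP1 : (P : Subgroup C) = ⊥ := Subgroup.card_eq_one.mp (by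
        rw [P.card_eq_multiplicity, Nat.factorization_eq_zero_of_not_dvd h2, pow_zero])
      rw [hP1]; exact Subgroup.isComplement'_top_bot
  set M := N.map C.subtype with hM
  have hNcop : (Nat.card N).Coprime 2 := by
    rw [Nat.coprime_comm, Nat.Prime.coprime_iff_not_dvd Nat.prime_two]
    intro hd
    obtain ⟨x, hx⟩ := exists_prime_orderOf_dvd_card' (G := N) 2 hd
    have hi : P.1.index = Nat.card N := hNc.index_eq_card
    exact P.not_dvd_index (hi ▸ hd)
  have hNchar : ∀ x : C, (orderOf x).Coprime 2 → x ∈ N := fun x hx => by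
    haveI := hNn
    rw [← QuotientGroup.eq_one_iff]
    have h3 : orderOf (x : C ⧸ N) ∣ Nat.card P := by
      rw [← hNc.symm.index_eq_card]; exact orderOf_dvd_natCard _
    obtain ⟨k, hk⟩ := P.2.exists_card_eq
    rw [hk] at h3
    exact orderOf_eq_one_iff.mp
      (Nat.eq_one_of_dvd_coprimes (hx.pow_right k) (orderOf_map_dvd (QuotientGroup.mk' N) x) h3)
  have hNodd : ∀ x ∈ N, (orderOf x).Coprime 2 := fun x hx =>
    hNcop.coprime_dvd_left (Subgroup.orderOf_dvd_natCard N hx)
  have hMn : M.Normal := Subgroup.Normal.mk fun m hm g => by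
    obtain ⟨x, hx, rfl⟩ := hm
    refine ⟨⟨g * x * g⁻¹, hCn.conj_mem _ x.2 g⟩, hNchar _ ?_, rfl⟩
    rw [← Subgroup.orderOf_coe]
    show (orderOf (g * (x : G) * g⁻¹)).Coprime 2
    rw [← MulAut.conj_apply, MulEquiv.orderOf_eq, Subgroup.orderOf_coe]
    exact hNodd x hx
  have hMC : ∀ x ∈ M, x ∈ C := fun x hx => by obtain ⟨y, -, rfl⟩ := hx; exact y.2
  have hMcard : Nat.card M = Nat.card N := Subgroup.card_map_of_injective C.subtype_injective
  have hdisj : H ⊓ M = ⊥ := by
    rw [eq_bot_iff]
    rintro x ⟨hxH, hxM⟩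
    rcases hCH x (hMC x hxM) hxH with h | h
    · exact h
    · exfalso
      have h2 := (hNcop.coprime_dvd_left (hMcard ▸ Subgroup.orderOf_dvd_natCard M hxM))
      rw [h] at h2
      exact absurd h2 (by norm_num)
  have hsup : H ⊔ M = H ⊔ C := by
    refine le_antisymm (sup_le_sup_left (fun x hx => hMC x hx) _) (sup_le le_sup_left ?_)
    intro x hx
    obtain ⟨⟨n, p⟩, hnp⟩ := hNc.2 ⟨x, hx⟩
    have e : (n : C).1 * ((p : C) : G) = x := congrArg Subtype.val hnp
    rw [← e]
    exact mul_mem (Subgroup.mem_sup_right ⟨n, n.2, rfl⟩) (Subgroup.mem_sup_left (hPH ⟨p, p.2⟩))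
  have hcop30 : (Nat.card M).Coprime 30 := by
    have h35 : ∀ p : ℕ, p = 3 ∨ p = 5 → ¬ p ∣ Nat.card M := by
      intro p hp hd
      haveI : Fact p.Prime := ⟨by rcases hp with rfl | rfl <;> norm_num⟩
      obtain ⟨x, hx⟩ := exists_prime_orderOf_dvd_card' (G := M) p hd
      exact hno p hp _ (hMC _ x.2) ((Subgroup.orderOf_coe x).trans hx)
    rw [show (30 : ℕ) = 2 * 3 * 5 from rfl]
    refine (Nat.Coprime.mul_right (hMcard ▸ hNcop) ?_).mul_right ?_
    · exact ((Nat.prime_three.coprime_iff_not_dvd).mpr (h35 3 (Or.inl rfl))).symm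
    · exact (((by norm_num : Nat.Prime 5).coprime_iff_not_dvd).mpr (h35 5 (Or.inr rfl))).symm
  have hZ : IsZGroup M := (F.res M).isZGroup_of_not_dvd fun h => by
    exact absurd (Nat.eq_one_of_dvd_coprimes hcop30 h (by norm_num)) (by norm_num)
  refine ⟨H, M, hHn, hMn, ⟨ψ⟩, hdisj, fun s hs x hx => (hCcomm x (hMC x hx) s hs).symm, hall,
    hcop30, hZ, ?_, ?_⟩
  · rw [hsup]; exact Subgroup.sup_normal H C
  rw [hsup, ← Subgroup.comap_map_eq f H, Subgroup.index_comap]
  have hrange : Nat.card f.range ≤ 120 := by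
    let g : MulAut H → K5 × K5 := fun φ => (key (ψ (φ (ψ.symm A5))), key (ψ (φ (ψ.symm B5))))
    have hg : Function.Injective g := fun φ φ' h => by
      simp only [g, Prod.mk.injEq] at h
      have hA := ψ.injective (key_injective h.1)
      have hB := ψ.injective (key_injective h.2)
      refine MulEquiv.ext fun x => ?_
      obtain ⟨t, rfl⟩ := ψ.symm.surjective x
      have key' : Set.EqOn (φ.toMonoidHom.comp ψ.symm.toMonoidHom)
          (φ'.toMonoidHom.comp ψ.symm.toMonoidHom) (Subgroup.closure {A5, B5} : Set T5) := by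
        refine MonoidHom.eqOn_closure ?_
        rintro y (rfl | rfl)
        · exact hA
        · exact hB
      exact key' (show t ∈ Subgroup.closure ({A5, B5} : Set T5) by rw [closure_AB]; trivial)
    refine (Subgroup.card_le_card_group _).trans ?_
    have hsub : Set.range g ⊆ {p | p ∈ genPairs} := by
      rintro _ ⟨φ, rfl⟩
      refine mem_genPairs ?_ ?_ ?_
      · rw [MulEquiv.orderOf_eq, MulEquiv.orderOf_eq, MulEquiv.orderOf_eq, orderOf_A5]
      · rw [MulEquiv.orderOf_eq, MulEquiv.orderOf_eq, MulEquiv.orderOf_eq, orderOf_B5]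
      · rw [← map_mul, ← map_mul, ← map_mul, MulEquiv.orderOf_eq, MulEquiv.orderOf_eq,
          MulEquiv.orderOf_eq, orderOf_A5B5]
    rw [← Set.ncard_univ, ← Set.ncard_image_of_injective _ hg, Set.image_univ]
    refine (Set.ncard_le_ncard hsub (List.finite_toSet _)).trans ?_
    rw [show {p | p ∈ genPairs} = (genPairs.toFinset : Set (K5 × K5)) by ext; simp,
      Set.ncard_coe_finset]
    exact (List.toFinset_card_le _).trans genPairs_length.le
  have hK : 60 ≤ Nat.card (H.map f) := by
    have hker : Nat.card (f.comp H.subtype).ker ≤ 2 := by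
      have hsub : (fun x : (f.comp H.subtype).ker => ((x : H) : G)) '' Set.univ ⊆
          {1, ((ψ.symm Z5c : H) : G)} := by
        rintro _ ⟨x, -, rfl⟩
        rcases hCH _ x.2 (x : H).2 with h | h
        · exact Or.inl h
        · exact Or.inr (F.eq_of_orderOf_two h
            (by rw [Subgroup.orderOf_coe, MulEquiv.orderOf_eq, orderOf_Z5c]))
      have hinj : Function.Injective (fun x : (f.comp H.subtype).ker => ((x : H) : G)) :=
        fun x y h => Subtype.ext (Subtype.ext h)
      rw [← Set.ncard_univ, ← Set.ncard_image_of_injective _ hinj]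
      exact (Set.ncard_le_ncard hsub (Set.toFinite _)).trans ((Set.ncard_insert_le _ _).trans (by rw [Set.ncard_singleton]))
    have hcard := Subgroup.card_mul_index (f.comp H.subtype).ker
    rw [Subgroup.index_ker, Nat.card_congr ψ.toEquiv, card_T5, MonoidHom.range_comp,
      Subgroup.range_subtype] at hcard
    nlinarith
  have hle : H.map f ≤ f.range := Subgroup.map_le_range f H
  have hmul : (H.map f).relIndex f.range * Nat.card (H.map f) = Nat.card f.range := by
    rw [← Subgroup.relIndex_bot_left (H.map f), mul_comm,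
      Subgroup.relIndex_mul_relIndex _ _ _ bot_le hle, Subgroup.relIndex_bot_left]
  have h0 : 0 < (H.map f).relIndex f.range := by
    rcases Nat.eq_zero_or_pos ((H.map f).relIndex f.range) with h | h
    · rw [h, zero_mul] at hmul
      exact absurd hmul.symm Nat.card_pos.ne'
    · exact h
  have h1 : (H.map f).relIndex f.range ≤ 2 := by nlinarith
  omega

theorem equiv_of_perfect [Nontrivial G] (hperf : commutator G = ⊤) : Nonempty (G ≃* T5) := by
  have hns : ¬ Group.IsSolvable G := fun h =>
    not_subsingleton G (haveI := h; subsingleton_of_perfect_solvable hperf)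
  obtain ⟨S, M, hSn, hMn, ⟨e⟩, -, -, hall, -, hZ, hn, hidx⟩ := F.nonsolvable_structure hns
  haveI := hn
  haveI := hSn
  haveI := hZ
  have htop : S ⊔ M = ⊤ := by
    rcases hidx with h | h
    · exact Subgroup.index_eq_one.mp h
    · exfalso
      haveI : Fact (Nat.Prime 2) := ⟨Nat.prime_two⟩
      haveI : IsCyclic (G ⧸ (S ⊔ M)) := isCyclic_of_prime_card (p := 2) h
      letI : CommGroup (G ⧸ (S ⊔ M)) := IsCyclic.commGroup
      have h1 : S ⊔ M = ⊤ := eq_top_iff.mpr fun g _ =>
        (QuotientGroup.eq_one_iff g).mp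
          (show (g : G ⧸ (S ⊔ M)) = 1 from hom_eq_one_of_perfect hperf (QuotientGroup.mk' (S ⊔ M)) g)
      rw [h1, Subgroup.index_top] at h
      omega
  have hS : S = ⊤ := by
    have hsurj : Function.Surjective ((QuotientGroup.mk' S).comp M.subtype) := fun q => by
      obtain ⟨g, rfl⟩ := QuotientGroup.mk'_surjective S q
      obtain ⟨s, hs, m, hm, rfl⟩ := Subgroup.mem_sup_of_normal_left.mp
        (htop ▸ Subgroup.mem_top g : g ∈ S ⊔ M)
      exact ⟨⟨m, hm⟩, by simp [(QuotientGroup.eq_one_iff s).mpr hs]⟩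
    haveI : Group.IsSolvable (G ⧸ S) := Group.isSolvable_of_surjective hsurj
    have hperf' : commutator (G ⧸ S) = ⊤ := by
      rw [commutator_def, ← Subgroup.map_top_of_surjective _ (QuotientGroup.mk'_surjective S),
        ← Subgroup.map_commutator, ← commutator_def, hperf]
    have := subsingleton_of_perfect_solvable hperf'
    exact eq_top_iff.mpr fun g _ => (QuotientGroup.eq_one_iff g).mp (Subsingleton.elim _ _)
  exact ⟨(Subgroup.topEquiv.symm.trans (MulEquiv.subgroupCongr hS.symm)).trans e⟩

end FPFRep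

end Cfsg.Agent.FGS4.Zass
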